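import Groth.Agent.FGA.K276.Neutral2
import Groth.Agent.Flat2D.ConstrGen
import Mathlib.AlgebraicGeometry.ResidueField

/-!
# The torsion set `G^τ` is stable under generization
-/

set_option autoImplicit false
universe u

open CategoryTheory MonoidalCategory CartesianMonoidalCategory MonObj GrpObj AlgebraicGeometry Limits
open Groth.Agent.Sga3.H778 Groth.Agent.Sga3C Groth.Agent.Sga3C.HomogIrr Topology

namespace K276.Neutral

variable {S : Scheme.{u}} {G : Over S} [GrpObj G]

open NeutralPts NeutralOpen

/-- The point of `T ⊗ G` defined by a `T`-point of `G`. -/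
noncomputable def sigPt {T : Over S} (t : T.left) (a : T ⟶ G) : (T ⊗ G : Over S).left :=
  (lift (𝟙 T) a).left t

lemma mul_mem_component (T : Over S) [Subsingleton T.left] (t : T.left) (g a b : T ⟶ G)
    (h : sigPt t a ∈ connectedComponent (sigPt t b)) :
    sigPt t (g * a) ∈ connectedComponent (sigPt t (g * b)) := by
  let A := (GrpBasic.mulLeftShear g).hom
  have hA (a : T ⟶ G) : lift (𝟙 T) a ≫ A = lift (𝟙 T) (g * a) := by
    ext1
    · simp [A]
    · rw [Category.assoc, GrpBasic.mulLeftShear_hom_snd, comp_mul]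
      simp
  have h1 (a : T ⟶ G) : A.left (sigPt t a) = sigPt t (g * a) := by
    rw [sigPt, sigPt, ← comp_left_apply, hA]
  have h2 := A.left.continuous.image_connectedComponent_subset (sigPt t b)
  rw [h1] at h2
  rw [← h1 a]
  exact h2 ⟨_, h, rfl⟩

theorem finite_connectedComponents {A : Type*} [TopologicalSpace A] [TopologicalSpace.NoetherianSpace A] :
    Finite (_root_.ConnectedComponents A) := by
  have h := TopologicalSpace.NoetherianSpace.finite_irreducibleComponents (α := A)
  have : Finite ↥(irreducibleComponents A) := h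
  let φ : ↥(irreducibleComponents A) → _root_.ConnectedComponents A := fun Z =>
    ((Z.2.1.nonempty.some : A) : _root_.ConnectedComponents A)
  refine Finite.of_surjective φ fun c => ?_
  obtain ⟨x, rfl⟩ := ConnectedComponents.surjective_coe c
  refine ⟨⟨irreducibleComponent x, irreducibleComponent_mem_irreducibleComponents x⟩, ?_⟩
  rw [ConnectedComponents.coe_eq_coe]
  refine connectedComponent_eq ?_
  have h1 := (irreducibleComponent_mem_irreducibleComponents x).1.nonempty.some_mem
  exact (isIrreducible_irreducibleComponent (x := x)).isPreirreducible.isPreconnected.subset_connectedComponent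
    h1 mem_irreducibleComponent

theorem isLocallyConstructible_compl {X : Type*} [TopologicalSpace X] {s : Set X}
    (hs : IsLocallyConstructible s) : IsLocallyConstructible sᶜ := by
  intro x
  obtain ⟨U, hU, hU', h⟩ := hs x
  refine ⟨U, hU, hU', ?_⟩
  rw [Set.preimage_compl, isConstructible_compl]
  exact h

/-- If `x' ⤳ x` and `x ∈ G⁰` then some multiple of `x'` is in `G⁰`. -/
theorem exists_tor_of_specializes [LocallyOfFiniteType G.hom] {x x' : G.left} (h : x' ⤳ x) {n : ℕ}
    (hn : 0 < n) (hx : Tor G x n) : ∃ m : ℕ, 0 < m ∧ Tor G x' m := by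
  obtain ⟨U, V, hsU, hU, hV, hVU, hN⟩ := exists_qc G (G.hom x)
  -- the points `[k n] x'` lie in `V`
  have hmem (k : ℕ) : pw G (k * n) x' ∈ V := by
    have h1 : pw G (k * n) x ∈ V := hN _ (by rwa [hom_pw]) (hx.mul k)
    exact (h.map (pw G (k * n)).continuous).mem_open V.2 h1
  let T := ptObj G x'
  let xT : T ⟶ G := ptHom G x'
  obtain ⟨t⟩ : Nonempty T.left := inferInstance
  have hxT (k : ℕ) : (xT ^ k).left t = pw G k x' := by
    have h1 : xT ^ k = xT ≫ (𝟙 G : G ⟶ G) ^ k := by rw [comp_pow, Category.comp_id]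
    rw [h1, comp_left_apply, ptHom_apply]
  let F : (T ⊗ G : Over S).left.Opens := (snd T G).left ⁻¹ᵁ V
  have hF (k : ℕ) : sigPt t (xT ^ (k * n)) ∈ F := by
    change (snd T G).left ((lift (𝟙 T) (xT ^ (k * n))).left t) ∈ V
    rw [snd_lift_apply, hxT]
    exact hmem k
  -- `F` is Noetherian
  have hqc : QuasiCompact (snd T G).left := by
    have h1 : QuasiCompact T.hom := by
      have : TopologicalSpace.NoetherianSpace T.left := inferInstance
      refine ⟨fun W _ _ => TopologicalSpace.NoetherianSpace.isCompact _⟩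
    exact MorphismProperty.of_isPullback (isPullback_snd T G).flip h1
  have hFc : IsCompact (F : Set (T ⊗ G : Over S).left) :=
    QuasiCompact.isCompact_preimage (f := (snd T G).left) V V.2 hV
  have hlN : IsLocallyNoetherian (T ⊗ G : Over S).left := by
    have h1 : LocallyOfFiniteType (fst T G).left :=
      MorphismProperty.of_isPullback (isPullback_snd T G) ‹LocallyOfFiniteType G.hom›
    have h2 : IsLocallyNoetherian T.left := inferInstanceAs (IsLocallyNoetherian (Spec _))
    exact LocallyOfFiniteType.isLocallyNoetherian (fst T G).left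
  have : CompactSpace (F : Scheme.{u}) := isCompact_iff_compactSpace.mp hFc
  have : IsNoetherian (F : Scheme.{u}) := {}
  have hfin : Finite (_root_.ConnectedComponents (F : Scheme.{u})) := finite_connectedComponents
  let c : ℕ → _root_.ConnectedComponents (F : Scheme.{u}) := fun k =>
    ConnectedComponents.mk (⟨_, hF k⟩ : (F : Scheme.{u}))
  obtain ⟨k, l, hkl, hc⟩ := Finite.exists_ne_map_eq_of_infinite c
  have hcc : sigPt t (xT ^ (l * n)) ∈ connectedComponent (sigPt t (xT ^ (k * n))) := by
    have h1 := ConnectedComponents.coe_eq_coe'.mp hc.symm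
    have h2 := F.ι.continuous.image_connectedComponent_subset (⟨_, hF k⟩ : (F : Scheme.{u}))
    exact h2 ⟨_, h1, rfl⟩
  wlog hlt : k < l generalizing k l
  · refine this l k hkl.symm hc.symm ?_ (lt_of_le_of_ne (not_lt.mp hlt) hkl.symm)
    rw [← connectedComponent_eq hcc]
    exact mem_connectedComponent
  refine ⟨(l - k) * n, Nat.mul_pos (Nat.sub_pos_of_lt hlt) hn, ?_⟩
  have h3 := mul_mem_component T t (xT ^ (k * n))⁻¹ _ _ hcc
  rw [inv_mul_cancel] at h3
  have h4 : (xT ^ (k * n))⁻¹ * xT ^ (l * n) = xT ^ ((l - k) * n) := by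
    have : l * n = k * n + (l - k) * n := by rw [← Nat.add_mul]; congr 1; omega
    rw [this, _root_.pow_add, inv_mul_cancel_left]
  rw [h4] at h3
  have h5 := (lift_mem_iff T t (xT ^ ((l - k) * n))).mp h3
  rw [hxT] at h5
  exact h5

variable [IsLocallyNoetherian S] [LocallyOfFiniteType G.hom]

variable (G) in
/-- The torsion set. -/
def tau : Set G.left := {x | ∃ n : ℕ, 0 < n ∧ Tor G x n}

theorem isLocallyConstructible_tau : IsLocallyConstructible (tau G) := by
  have h : tau G = {x : G.left | ord G x = 0}ᶜ := by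
    ext x
    exact exists_tor_iff
  rw [h]
  exact isLocallyConstructible_compl (isLocallyConstructible_ord 0)

/-- `G^τ` is open. -/
theorem isOpen_tau : IsOpen (tau G) := by
  rw [isOpen_iff_mem_nhds]
  rintro x ⟨n, hn, hx⟩
  rw [← mem_interior_iff_mem_nhds]
  exact Groth.Agent.Flat2D.ConstrGen.mem_interior_of_forall_specializes isLocallyConstructible_tau
    fun ξ hξ => exists_tor_of_specializes hξ hn hx

/-- A criterion for being closed. -/
theorem isClosed_of_forall_affine {X : Scheme.{u}} (E : Set X)
    (h : ∀ W : X.Opens, IsAffineOpen W → ∃ F : Set X, IsClosed F ∧ ∀ x ∈ W, x ∈ E ↔ x ∈ F) :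
    IsClosed E := by
  rw [← isOpen_compl_iff, isOpen_iff_mem_nhds]
  intro x hx
  obtain ⟨W, hW, hxW, -⟩ := exists_isAffineOpen_mem_and_subset (U := (⊤ : X.Opens)) (x := x) trivial
  obtain ⟨F, hF, hEF⟩ := h W hW
  have hxF : x ∈ Fᶜ := fun hxF => hx ((hEF x hxW).mpr hxF)
  filter_upwards [W.2.mem_nhds hxW, hF.isOpen_compl.mem_nhds hxF] with y hy hyF hyE
  exact hyF ((hEF y hy).mp hyE)

omit [IsLocallyNoetherian S] [LocallyOfFiniteType G.hom] in
/-- If `G⁰` is closed then so is the set of `x` with `[n] x ∈ G⁰`. -/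
lemma isClosed_tor (h0 : IsClosed (SGA3x.neutralSet G)) (n : ℕ) : IsClosed {x : G.left | Tor G x n} :=
  h0.preimage (pw G n).continuous

/-- If `G⁰` is closed then `G^τ` is closed. -/
theorem isClosed_tau (h0 : IsClosed (SGA3x.neutralSet G)) : IsClosed (tau G) := by
  refine isClosed_of_forall_affine _ fun W hW => ?_
  obtain ⟨N, hN, hN'⟩ := exists_bound W hW.isCompact
  exact ⟨_, isClosed_tor h0 N, fun x hx => ⟨hN' x hx, fun h => ⟨N, hN, h⟩⟩⟩

end K276.Neutral
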