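import Groth.Agent.Pic13.H602.RigDesc
import Groth.Agent.FGA.K275.FlatApp
import Groth.Agent.Grpsch.PicGrp

/-!
# fpqc descent of rigidified invertible modules along one flat covering

Same as `Groth.Agent.Pic13.H602.RigDesc`, for a single fpqc covering `j : T' ⟶ T`, the rigidity hypothesis being only
required on `T' ×_T T' ×_T T'`.

* `exists_desc`: descent of a rigidified module.
* `exists_invertible`: `f : X ⟶ S` quasi-compact and quasi-separated with `O_S ≅ f_* O_X` and a section, `g : S' ⟶ S` flat,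
  surjective and quasi-compact; an invertible module on `X ×_S S'` whose two pull backs to `X ×_S S' ×_S S'` agree modulo
  the base is, modulo the base, the pull back of an invertible module on `X`.
-/

set_option autoImplicit false
set_option backward.isDefEq.respectTransparency false

universe v u

open CategoryTheory CategoryTheory.Limits AlgebraicGeometry TopologicalSpace Opposite

namespace K276.FlatRig

open Groth.Agent Groth.Agent.Fdesc Groth.Agent.Fdesc.LocGen Groth.Agent.Picfga.LineHom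
  Groth.Agent.Picfga.LineDescent Groth.Agent.Picfga.LineFam Groth.Agent.Picfga.HilbPull
  Groth.Agent.Pic13.H602.FamDesc Groth.Agent.Pic13.H602.Rig

section arrT

variable {X S W : Scheme.{u}} {f : X ⟶ S} {w : W ⟶ X} {T T' T₁ T'' : Over S}

lemma sim (hI : Function.Injective (wT f w T').appTop) {g g₁ : T' ⟶ T} {R : RB (wT f w T)}
    {R' : RB (wT f w T')} (A : ArrT g R R') (B : ArrT g₁ R R') (h : g = g₁) : Sim A.θ B.θ := by
  subst h
  exact Sim.of_eq (IsArr.unique (wT_XTmap f w g) R.inv hI A.isArr B.isArr)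

lemma sim_comp (hI : Function.Injective (wT f w T'').appTop) {g : T' ⟶ T} {g' : T'' ⟶ T'} {h : T₁ ⟶ T}
    {h' : T'' ⟶ T₁} {R : RB (wT f w T)} {R' : RB (wT f w T')} {R₁ : RB (wT f w T₁)}
    {R'' : RB (wT f w T'')} (A : ArrT g R R') (B : ArrT g' R' R'') (A' : ArrT h R R₁)
    (B' : ArrT h' R₁ R'') (e : g' ≫ g = h' ≫ h) : Sim (A.θ.comp B.θ) (A'.θ.comp B'.θ) :=
  ((ArrT.sim_comp_θ A B rfl).symm.trans (sim hI _ _ e)).trans (ArrT.sim_comp_θ A' B' rfl)

/-- Descent of a rigidified module along one fpqc covering. -/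
theorem exists_desc (j : T' ⟶ T) [Flat j.left] [Surjective j.left] [QuasiCompact j.left]
    (hI : Function.Injective (wT f w (ovl (ovl₂ j j) (ovl₁ j j))).appTop)
    (R : RB (wT f w T')) (P : RB (wT f w (ovl j j))) (B : ArrT (ovl₁ j j) R P) (B' : ArrT (ovl₂ j j) R P) :
    ∃ R₀ : RB (wT f w T), Nonempty (ArrT j R₀ R) := by
  have hj : Presieve.ofArrows (fun _ : PUnit.{u + 1} ↦ T'.left) (fun _ ↦ j.left) ∈
      Scheme.fpqcPrecoverage T.left := by
    rw [Presieve.ofArrows_pUnit.{u}]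
    exact Scheme.Hom.singleton_mem_fpqcPrecoverage _
  let U3 : Over S := ovl (ovl₂ j j) (ovl₁ j j)
  let r₁₂ : U3 ⟶ ovl j j := ovl₁ _ _
  let r₂₃ : U3 ⟶ ovl j j := ovl₂ _ _
  have hr : r₁₂ ≫ ovl₂ j j = r₂₃ ≫ ovl₁ j j := ovl_w _ _
  have hr' : (r₁₂ ≫ ovl₁ j j) ≫ j = (r₂₃ ≫ ovl₂ j j) ≫ j := by
    rw [Category.assoc, ovl_w, reassoc_of% hr, ovl_w, Category.assoc]
  obtain ⟨r₁₃, h1, h2⟩ := exists_ovl_lift (r₁₂ ≫ ovl₁ j j) (r₂₃ ≫ ovl₂ j j) hr'
  obtain ⟨Q, ⟨C₁₂⟩⟩ := exists_arrT r₁₂ P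
  have C₂₃ : ArrT r₂₃ P Q := (nonempty_arrT_of_eq B'.map_cls B.map_cls C₁₂ hr).some
  have C₁₃ : ArrT r₁₃ P Q := (nonempty_arrT_of_eq B.map_cls B.map_cls C₁₂ h1.symm).some
  let O : Overlap (fun _ : PUnit.{u + 1} ↦ PicF.XTmap f j) (fun _ ↦ R.L) :=
    { P := fun _ _ ↦ PicF.XT f (ovl j j)
      q₁ := fun _ _ ↦ PicF.XTmap f (ovl₁ j j)
      q₂ := fun _ _ ↦ PicF.XTmap f (ovl₂ j j)
      isPb := fun _ _ ↦ isPullback_XTmap₂ f (isPullback_ovl j j)
      M := fun _ _ ↦ P.L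
      θ₁ := fun _ _ ↦ B.θ
      θ₂ := fun _ _ ↦ B'.θ
      coc := fun _ _ _ ↦ ⟨PicF.XT f U3, PicF.XTmap f r₁₂, PicF.XTmap f r₂₃,
        PicF.XTmap f r₁₃, Q.L, C₁₂.θ, C₂₃.θ, C₁₃.θ,
        sim_comp hI _ _ _ _ h1.symm, sim_comp hI _ _ _ _ hr,
        sim_comp hI _ _ _ _ h2.symm, fun Z a b c hab hbc ↦ by
          have hp1 := isPullback_XTmap₂ f (isPullback_ovl j j)
          have hp3 := isPullback_XTmap₂ f (isPullback_ovl (ovl₂ j j) (ovl₁ j j))
          refine ⟨hp3.lift (hp1.lift a b hab) (hp1.lift b c hbc) (by simp), ?_, ?_, ?_⟩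
          · rw [hp3.lift_fst_assoc, hp1.lift_fst]
          · rw [hp3.lift_fst_assoc, hp1.lift_snd]
          · rw [hp3.lift_snd_assoc, hp1.lift_snd]⟩ }
  obtain ⟨M, hM, θ, hθ⟩ := O.exists_desc (fun _ ↦ R.inv) (XT_mem_fpqc f (V := fun _ : PUnit.{u + 1} ↦ T')
    (j := fun _ ↦ j) hj)
  have hO : PicF.IsInvertible (Coh.structureModule (PicF.XT (w ≫ f) T)) := by
    rw [isInvertible_iff]
    exact fun y ↦ ⟨⊤, one ⊤, trivial, isGen_one ⊤⟩
  obtain ⟨ρ, hρ⟩ := exists_fam_overlap (σ := wT f w T) hO (XT_mem_fpqc (w ≫ f) (V := fun _ : PUnit.{u + 1} ↦ T')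
    (j := fun _ ↦ j) hj)
    (fun i ↦ Fam.can _) (fun i k ↦ isPullback_XTmap₂ (w ≫ f) (isPullback_ovl j j))
    (fun i k ↦ Fam.can _) (fun i k ↦ Fam.can _)
    (fun i k ↦ (can_comp_can _ _ rfl).trans (can_comp_can _ _ (by
      rw [← XTmap_comp, ← XTmap_comp, ovl_w])).symm)
    (fun i ↦ ((θ i).comp R.ρ).cast (wT_XTmap f w j))
    (fun i k ↦ by
      have e1 := (ArrT.simρ B).comp_right (θ i)
      have e2 := (ArrT.simρ B').comp_right (θ k)
      refine ((Sim.cast_left (wT_XTmap f w j)).comp_left _).trans ?_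
      refine Sim.trans ?_ ((Sim.cast_right (wT_XTmap f w j)).comp_left _)
      exact e1.symm.trans (((hθ i k).comp_left P.ρ).trans e2))
  refine ⟨⟨M, hM, ρ⟩, ⟨⟨θ PUnit.unit, ?_⟩⟩⟩
  rw [isArr_iff_sim]
  exact (Sim.cast_right (wT_XTmap f w j)).trans (Sim.of_eq (hρ PUnit.unit).symm)

end arrT

/-! ### Morphisms with a section -/

section Sec

variable {X S : Scheme.{u}} (f : X ⟶ S) (σ : S ⟶ X) (hσ : σ ≫ f = 𝟙 S)

include hσ

/-- The base change of the identity. -/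
lemma isIso_XTproj (T : Over S) : IsIso (PicF.XTproj (σ ≫ f) T) := by
  have h : IsIso (σ ≫ f) := by rw [hσ]; infer_instance
  exact (inferInstance : IsIso (pullback.snd (σ ≫ f) T.hom))

lemma bijective_wT (T : Over S) (hf : Function.Bijective (PicF.XTproj f T).appTop) :
    Function.Bijective (wT f σ T).appTop := by
  have h1 : wT f σ T ≫ PicF.XTproj f T = PicF.XTproj (σ ≫ f) T := wT_snd f σ T
  have h2 : (PicF.XTproj f T).appTop ≫ (wT f σ T).appTop = (PicF.XTproj (σ ≫ f) T).appTop := by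
    rw [← Scheme.Hom.comp_appTop, h1]
  have h3 : IsIso (PicF.XTproj (σ ≫ f) T) := isIso_XTproj f σ hσ T
  have h4 : IsIso (PicF.XTproj f T).appTop := (ConcreteCategory.isIso_iff_bijective _).mpr hf
  have h5 : IsIso ((PicF.XTproj f T).appTop ≫ (wT f σ T).appTop) := by rw [h2]; infer_instance
  have h6 : IsIso (wT f σ T).appTop := IsIso.of_isIso_comp_left (PicF.XTproj f T).appTop _
  exact (ConcreteCategory.isIso_iff_bijective _).mp h6

end Sec

section Main

open Grpsch.PicGrp (Pic mk pull mk_eq_iff mk_eq_one_iff exists_mk pull_mk pull_id)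

variable {X S S' : Scheme.{u}} (f : X ⟶ S) [QuasiCompact f] [QuasiSeparated f]
  (hf : ∀ U : S.Opens, Function.Bijective (f.app U))

include hf

lemma bijective_XTproj (T : Over S) [Flat T.hom] : Function.Bijective (PicF.XTproj f T).appTop :=
  K275.FlatApp.bijective_app (IsPullback.of_hasPullback f T.hom) hf ⊤

/-- Descent modulo the base, in terms of classes. -/
theorem exists_class (σ : S ⟶ X) (hσ : σ ≫ f = 𝟙 S) {T T' : Over S} (j : T' ⟶ T) [hT : Flat T.hom] [Flat j.left]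
    [Surjective j.left] [QuasiCompact j.left]
    (c : Pic (PicF.XT f T')) (n : Pic (ovl j j).left)
    (h : pull (PicF.XTmap f (ovl₁ j j)) c =
      pull (PicF.XTmap f (ovl₂ j j)) c * pull (PicF.XTproj f (ovl j j)) n) :
    ∃ (a : Pic (PicF.XT f T)) (b : Pic T'.left),
      c = pull (PicF.XTmap f j) a * pull (PicF.XTproj f T') b := by
  have hT' : Flat T'.hom := by
    rw [← Over.w j]
    infer_instance
  obtain ⟨V, hV0⟩ : ∃ V : Over S, V = ovl j j := ⟨_, rfl⟩
  have hfl : ∀ {A B : Over S} (a : A ⟶ T') (b : B ⟶ T'), Flat a.left → Flat b.left → Flat (ovl a b).hom := by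
    intro A B a b ha hb
    have h1 : Flat (pullback.fst a.left b.left) := MorphismProperty.pullback_fst (P := @Flat) _ _ hb
    have h2 : Flat A.hom := by
      rw [← Over.w a]
      infer_instance
    exact (inferInstance : Flat (pullback.fst a.left b.left ≫ A.hom))
  have hp1 : Flat (ovl₁ j j).left := MorphismProperty.pullback_fst (P := @Flat) _ _ inferInstance
  have hp2 : Flat (ovl₂ j j).left := MorphismProperty.pullback_snd (P := @Flat) _ _ inferInstance
  have hV : Flat (ovl j j).hom := by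
    rw [← Over.w (ovl₁ j j)]
    infer_instance
  have hU3 : Flat (ovl (ovl₂ j j) (ovl₁ j j)).hom := hfl _ _ hp2 hp1
  -- the section over `T'`
  have hε : IsIso (PicF.XTproj (σ ≫ f) T') := isIso_XTproj f σ hσ T'
  obtain ⟨s', hs'0⟩ : ∃ s' : T'.left ⟶ PicF.XT f T', PicF.XTproj (σ ≫ f) T' ≫ s' = wT f σ T' :=
    ⟨inv (PicF.XTproj (σ ≫ f) T') ≫ wT f σ T', by rw [IsIso.hom_inv_id_assoc]⟩
  have hs' : s' ≫ PicF.XTproj f T' = 𝟙 T'.left := by
    rw [← cancel_epi (PicF.XTproj (σ ≫ f) T'), reassoc_of% hs'0, Category.comp_id]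
    exact wT_snd f σ T'
  -- the rigidifiable class
  obtain ⟨b, hb⟩ : ∃ b : Pic T'.left, pull s' c = b := ⟨_, rfl⟩
  obtain ⟨cr, hcr0⟩ : ∃ cr : Pic (PicF.XT f T'), cr = c * (pull (PicF.XTproj f T') b)⁻¹ := ⟨_, rfl⟩
  have hcr : pull s' cr = 1 := by
    rw [hcr0, map_mul, map_inv, ← Grpsch.PicGrp.pull_comp, hs', Grpsch.PicGrp.pull_id, hb, mul_inv_cancel]
  have hcr' : pull (wT f σ T') cr = 1 := by
    rw [← hs'0, Grpsch.PicGrp.pull_comp, hcr, map_one]
  obtain ⟨L, hL, hLc⟩ := exists_mk cr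
  have htriv : Nonempty ((Scheme.Modules.pullback (wT f σ T')).obj L ≅ Coh.structureModule _) := by
    rw [hLc, pull_mk, mk_eq_one_iff] at hcr'
    exact hcr'
  let R : RB (wT f σ T') := ⟨L, hL, Fam.ofIso htriv.some⟩
  -- the two pull backs
  obtain ⟨P, ⟨B⟩⟩ := exists_arrT (ovl₁ j j) R
  -- comparison of classes
  have hpr : ∀ p : ovl j j ⟶ T', pull (wT f σ (ovl j j)) (pull (PicF.XTmap f p) cr) = 1 := by
    intro p
    rw [← Grpsch.PicGrp.pull_comp, wT_XTmap, Grpsch.PicGrp.pull_comp, hcr', map_one]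
  have hεV : IsIso (PicF.XTproj (σ ≫ f) (ovl j j)) := isIso_XTproj f σ hσ _
  have hwV : wT f σ (ovl j j) ≫ PicF.XTproj f (ovl j j) = PicF.XTproj (σ ≫ f) (ovl j j) := wT_snd f σ _
  have hsnd : ∀ p : ovl j j ⟶ T', pull (PicF.XTmap f p) (pull (PicF.XTproj f T') b) =
      pull (PicF.XTproj f (ovl j j)) (pull p.left b) := by
    intro p
    rw [← Grpsch.PicGrp.pull_comp, ← Grpsch.PicGrp.pull_comp, XTmap_snd]
  obtain ⟨m, hm0⟩ : ∃ m : Pic (ovl j j).left, m = n * (pull (ovl₁ j j).left b)⁻¹ * pull (ovl₂ j j).left b :=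
    ⟨_, rfl⟩
  have hcomp : pull (PicF.XTmap f (ovl₁ j j)) cr = pull (PicF.XTmap f (ovl₂ j j)) cr *
      pull (PicF.XTproj f (ovl j j)) m := by
    rw [hcr0, map_mul, map_inv, map_mul, map_inv, hsnd, hsnd, h, hm0, map_mul, map_mul, map_inv]
    generalize pull (PicF.XTmap f (ovl₂ j j)) c = x1
    generalize pull (PicF.XTproj f (ovl j j)) n = x2
    generalize pull (PicF.XTproj f (ovl j j)) (pull (ovl₁ j j).left b) = x3
    generalize pull (PicF.XTproj f (ovl j j)) (pull (ovl₂ j j).left b) = x4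
    rw [mul_assoc x2, mul_comm x3⁻¹ x4, ← mul_assoc x2, mul_assoc x1 x4⁻¹, ← mul_assoc x4⁻¹, mul_comm x2 x4,
      inv_mul_cancel_left, ← mul_assoc]
  have hm : m = 1 := by
    have h1 := congrArg (pull (wT f σ (ovl j j))) hcomp
    rw [map_mul, hpr, hpr, one_mul, ← Grpsch.PicGrp.pull_comp, hwV] at h1
    have h2 := congrArg (pull (inv (PicF.XTproj (σ ≫ f) (ovl j j)))) h1
    rw [map_one, ← Grpsch.PicGrp.pull_comp, IsIso.inv_hom_id, Grpsch.PicGrp.pull_id] at h2
    exact h2.symm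
  have hcomp' : pull (PicF.XTmap f (ovl₁ j j)) cr = pull (PicF.XTmap f (ovl₂ j j)) cr := by
    rw [hcomp, hm, map_one, mul_one]
  have hcl : PicF.cl P.L = PicF.pullCl (PicF.XTmap f (ovl₂ j j)) (PicF.cl R.L) := by
    rw [B.θ.cl_eq R.inv]
    show PicF.pullCl (PicF.XTmap f (ovl₁ j j)) (PicF.cl L) = PicF.pullCl (PicF.XTmap f (ovl₂ j j)) (PicF.cl L)
    rw [pullCl_cl, pullCl_cl, cl_eq_iff]
    rw [hLc, pull_mk, pull_mk, mk_eq_iff] at hcomp'
    exact hcomp'
  obtain ⟨θ, hθ⟩ := exists_isArr (wT_XTmap f σ (ovl₂ j j)) R.inv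
    (bijective_wT f σ hσ _ (bijective_XTproj f hf _)) hcl R.ρ P.ρ
  obtain ⟨R₀, ⟨A⟩⟩ := exists_desc j (bijective_wT f σ hσ _ (bijective_XTproj f hf _)).1 R P B ⟨θ, hθ⟩
  -- conclusion
  have hcl₀ := A.θ.cl_eq R₀.inv
  have hcr₀ : cr = pull (PicF.XTmap f j) (mk R₀.L R₀.inv) := by
    rw [hLc, pull_mk, mk_eq_iff]
    rw [pullCl_cl, cl_eq_iff] at hcl₀
    exact hcl₀
  refine ⟨mk R₀.L R₀.inv, b, ?_⟩
  rw [← hcr₀, hcr0, inv_mul_cancel_right]

end Main

/-- Descent modulo the base. -/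
theorem exists_invertible {X S S' : Scheme.{u}} (f : X ⟶ S)
    [QuasiCompact f] [QuasiSeparated f] (hf : ∀ U : S.Opens, Function.Bijective (f.app U))
    (σ : S ⟶ X) (hσ : σ ≫ f = 𝟙 S)
    (g : S' ⟶ S) [hg1 : Flat g] [hg2 : Surjective g] [hg3 : QuasiCompact g]
    (L' : (pullback f g).Modules) (hL' : PicF.IsInvertible L')
    (hcomp : ∃ N'' : (pullback g g).Modules, PicF.IsInvertible N'' ∧
      Nonempty ((Scheme.Modules.pullback (pullback.map f (pullback.fst g g ≫ g) f g (𝟙 X) (pullback.fst g g) (𝟙 S)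
          ((Category.comp_id f).trans (Category.id_comp f).symm) (Category.comp_id _))).obj L' ≅
        CohB1.tensorMod ((Scheme.Modules.pullback (pullback.map f (pullback.fst g g ≫ g) f g (𝟙 X) (pullback.snd g g) (𝟙 S)
          ((Category.comp_id f).trans (Category.id_comp f).symm) ((Category.comp_id _).trans pullback.condition))).obj L')
          ((Scheme.Modules.pullback (pullback.snd f (pullback.fst g g ≫ g))).obj N''))) :
    ∃ (L : X.Modules) (N' : S'.Modules), PicF.IsInvertible L ∧ PicF.IsInvertible N' ∧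
      Nonempty (L' ≅ CohB1.tensorMod ((Scheme.Modules.pullback (pullback.fst f g)).obj L)
        ((Scheme.Modules.pullback (pullback.snd f g)).obj N')) := by
  obtain ⟨N'', hN'', ⟨e⟩⟩ := hcomp
  let T : Over S := Over.mk (𝟙 S)
  let T' : Over S := Over.mk g
  let j : T' ⟶ T := Over.homMk g
  have hj1 : Flat j.left := hg1
  have hj2 : Surjective j.left := hg2
  have hj3 : QuasiCompact j.left := hg3
  have hT : Flat T.hom := (inferInstance : Flat (𝟙 S))
  obtain ⟨a, b, hab⟩ := exists_class f hf σ hσ j (Grpsch.PicGrp.mk L' hL' : Grpsch.PicGrp.Pic (PicF.XT f T'))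
    (Grpsch.PicGrp.mk N'' hN'' : Grpsch.PicGrp.Pic (ovl j j).left) (Grpsch.PicGrp.mk_congr e)
  obtain ⟨L₀, hL₀, rfl⟩ := Grpsch.PicGrp.exists_mk a
  obtain ⟨N', hN', rfl⟩ := Grpsch.PicGrp.exists_mk b
  have hδ : IsIso (pullback.fst f (𝟙 S)) := inferInstance
  have hfst : PicF.XTmap f j ≫ pullback.fst f (𝟙 S) = pullback.fst f g := XTmap_fst f j
  have hfst' : PicF.XTmap f j = pullback.fst f g ≫ inv (pullback.fst f (𝟙 S)) := by
    rw [← hfst, Category.assoc, IsIso.hom_inv_id, Category.comp_id]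
  rw [hfst', Grpsch.PicGrp.pull_comp] at hab
  refine ⟨(Scheme.Modules.pullback (inv (pullback.fst f (𝟙 S)))).obj L₀, N', isInvertible_pullback _ hL₀, hN', ?_⟩
  exact (Grpsch.PicGrp.mk_eq_iff _ _).mp hab

end K276.FlatRig
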