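import Groth.Agent.Sga3.H778.NeutralOpen
import Groth.Agent.S1325
import Mathlib.Topology.Spectral.Prespectral
import Mathlib.AlgebraicGeometry.Noetherian

/-!
# The union of the neutral components of a group scheme locally of finite type

* `exists_qc` : around a point of the base, `G⁰` is contained in a quasi-compact open;
* `exists_open_generic` : over a neighbourhood of `s` in `closure {s}`, `G⁰` is open.
-/

set_option autoImplicit false
universe u

open CategoryTheory MonoidalCategory CartesianMonoidalCategory MonObj GrpObj AlgebraicGeometry Limits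
open Groth.Agent.Sga3.H778 Groth.Agent.Sga3C.HomogIrr

namespace K276.Neutral

variable {S : Scheme.{u}} (G : Over S) [GrpObj G]

open NeutralPts NeutralOpen SecNbhd

/-- Around every point of the base the neutral set is contained in a quasi-compact open. -/
theorem exists_qc (s : S) : ∃ (U : S.Opens) (V : G.left.Opens), s ∈ U ∧ IsAffineOpen U ∧
    IsCompact (V : Set G.left) ∧ V ≤ G.hom ⁻¹ᵁ U ∧
    ∀ x : G.left, G.hom x ∈ U → x ∈ SGA3x.neutralSet G → x ∈ V := by
  obtain ⟨U₁, hU₁, hsU₁, -⟩ := exists_isAffineOpen_mem_and_subset (U := (⊤ : S.Opens)) (x := s) trivial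
  obtain ⟨V₁, hV₁, hsV₁, hV₁U⟩ := exists_isAffineOpen_mem_and_subset (U := G.hom ⁻¹ᵁ U₁)
    (x := unitSec G s) (by change G.hom _ ∈ U₁; rwa [hom_unitSec])
  have hV₁U' : V₁ ≤ G.hom ⁻¹ᵁ U₁ := hV₁U
  obtain ⟨a, ha, hsa⟩ := hU₁.exists_basicOpen_le (V := unitSec G ⁻¹ᵁ V₁) ⟨s, hsV₁⟩ hsU₁
  let V₂ : G.left.Opens := G.left.basicOpen (G.hom.appLE U₁ V₁ hV₁U' a)
  have hV₂ : IsAffineOpen V₂ := hV₁.basicOpen _
  have hV₂eq : V₂ = V₁ ⊓ G.hom ⁻¹ᵁ (S.basicOpen a) := by
    simp only [V₂]
    rw [Scheme.Hom.appLE, CommRingCat.comp_apply, Scheme.basicOpen_res, Scheme.preimage_basicOpen]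
  have hUaff : IsAffineOpen (S.basicOpen a) := hU₁.basicOpen a
  have hV₂U : V₂ ≤ G.hom ⁻¹ᵁ (S.basicOpen a) := hV₂eq ▸ inf_le_right
  -- the fibre product
  let g : (V₂ : Scheme.{u}) ⟶ (S.basicOpen a : Scheme.{u}) := G.hom.resLE _ _ hV₂U
  have hg : g ≫ (S.basicOpen a).ι = V₂.ι ≫ G.hom := Scheme.Hom.resLE_comp_ι _ _
  have : IsAffine (V₂ : Scheme.{u}) := hV₂
  have : IsAffine (S.basicOpen a : Scheme.{u}) := hUaff
  have hc : CompactSpace (opn G V₂ ⊗ opn G V₂ : Over S).left := by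
    have h1 : CompactSpace ↑(pullback g g) := inferInstance
    let q : pullback g g ⟶ pullback (V₂.ι ≫ G.hom) (V₂.ι ≫ G.hom) :=
      pullback.lift (pullback.fst g g) (pullback.snd g g) (by rw [← hg, pullback.condition_assoc])
    have hq : Function.Surjective q := by
      let r : pullback (V₂.ι ≫ G.hom) (V₂.ι ≫ G.hom) ⟶ pullback g g :=
        pullback.lift (pullback.fst _ _) (pullback.snd _ _) (by
          rw [← cancel_mono (S.basicOpen a).ι, Category.assoc, Category.assoc, hg, pullback.condition])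
      have hrq : r ≫ q = 𝟙 _ := by
        apply pullback.hom_ext
        · rw [Category.assoc, pullback.lift_fst, pullback.lift_fst, Category.id_comp]
        · rw [Category.assoc, pullback.lift_snd, pullback.lift_snd, Category.id_comp]
      intro w
      refine ⟨r w, ?_⟩
      rw [← Scheme.Hom.comp_apply, hrq]
      rfl
    exact hq.compactSpace q.continuous
  have hK : IsCompact (Set.range (mulMap G V₂).left) := isCompact_range (mulMap G V₂).left.continuous
  have hKU : Set.range (mulMap G V₂).left ⊆ (G.hom ⁻¹ᵁ (S.basicOpen a) : G.left.Opens) := by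
    rintro _ ⟨w, rfl⟩
    change G.hom ((mulMap G V₂).left w) ∈ S.basicOpen a
    rw [← Scheme.Hom.comp_apply, Over.w (mulMap G V₂)]
    have h2 : (opn G V₂ ⊗ opn G V₂ : Over S).hom = (fst (opn G V₂) (opn G V₂)).left ≫ V₂.ι ≫ G.hom :=
      (Over.w (fst (opn G V₂) (opn G V₂))).symm
    rw [h2, Scheme.Hom.comp_apply, Scheme.Hom.comp_apply]
    exact hV₂U ((fst (opn G V₂) (opn G V₂)).left w).2
  obtain ⟨W, hW, hWo, hKW, hWU⟩ := PrespectralSpace.exists_isCompact_and_isOpen_between hK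
    (G.hom ⁻¹ᵁ (S.basicOpen a)).isOpen hKU
  refine ⟨S.basicOpen a, ⟨W, hWo⟩, hsa, hUaff, hW, hWU, ?_⟩
  intro x hx hx0
  obtain ⟨w, hw⟩ := exists_mulMap_eq G V₂ x hx0 (by
    rw [hV₂eq]
    refine ⟨ha hx, ?_⟩
    change G.hom (unitSec G _) ∈ S.basicOpen a
    rwa [hom_unitSec])
  exact hKW ⟨w, hw⟩

section comp

variable {G} {U : S.Opens} {V : G.left.Opens} (hVU : V ≤ G.hom ⁻¹ᵁ U)

/-- The restriction of the structure morphism. -/
noncomputable abbrev res : (V : Scheme.{u}) ⟶ (U : Scheme.{u}) := G.hom.resLE U V hVU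

omit [GrpObj G] in
lemma res_coe (x : (V : Scheme.{u})) : (res hVU x).1 = G.hom x.1 := by
  have h : res hVU ≫ U.ι = V.ι ≫ G.hom := Scheme.Hom.resLE_comp_ι _ _
  have := congr($h x)
  rw [Scheme.Hom.comp_apply, Scheme.Hom.comp_apply] at this
  exact this

/-- The restriction of the unit section. -/
noncomputable def sec (h : ∀ x : G.left, G.hom x ∈ U → x ∈ SGA3x.neutralSet G → x ∈ V) :
    (U : Scheme.{u}) ⟶ (V : Scheme.{u}) :=
  IsOpenImmersion.lift V.ι (U.ι ≫ unitSec G) (by
    rintro _ ⟨t, rfl⟩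
    rw [Scheme.Opens.range_ι]
    change unitSec G t.1 ∈ V
    exact h _ (by rw [hom_unitSec]; exact t.2) (unitSec_mem t.1))

lemma sec_ι (h : ∀ x : G.left, G.hom x ∈ U → x ∈ SGA3x.neutralSet G → x ∈ V) :
    sec h ≫ V.ι = U.ι ≫ unitSec G := IsOpenImmersion.lift_fac _ _ _

lemma sec_res (h : ∀ x : G.left, G.hom x ∈ U → x ∈ SGA3x.neutralSet G → x ∈ V) :
    sec h ≫ res hVU = 𝟙 _ := by
  rw [← cancel_mono U.ι, Category.assoc, Scheme.Hom.resLE_comp_ι, reassoc_of% (sec_ι h), unitSec_hom]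
  simp

lemma sec_coe (h : ∀ x : G.left, G.hom x ∈ U → x ∈ SGA3x.neutralSet G → x ∈ V)
    (t : (U : Scheme.{u})) : (sec h t).1 = unitSec G t.1 := by
  have := congr($(sec_ι h) t)
  rw [Scheme.Hom.comp_apply, Scheme.Hom.comp_apply] at this
  exact this

/-- The section components of `V → U` are the trace of `G⁰`. -/
theorem mem_sectionComponents_iff
    (h : ∀ x : G.left, G.hom x ∈ U → x ∈ SGA3x.neutralSet G → x ∈ V) (v : (V : Scheme.{u})) :
    v ∈ MoreMor.sectionComponents (res hVU) (sec h) ↔ (v.1 : G.left) ∈ SGA3x.neutralSet G := by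
  rw [neutralSet_eq]
  constructor
  · intro hv
    exact sectionComponents_subset_preimage G.hom (unitSec G) (res hVU) (sec h) V.ι U.ι
      (Scheme.Hom.resLE_comp_ι _ _).symm (sec_ι h) (sec_res hVU h) hv
  · intro hv
    have hvU : G.hom v.1 ∈ U := hVU v.2
    set C : Set G.left := connectedComponentIn (G.hom ⁻¹' {G.hom v.1}) (unitSec G (G.hom v.1)) with hC
    have hCV : C ⊆ Set.range V.ι := by
      intro x hx
      have hx1 : x ∈ G.hom ⁻¹' {G.hom v.1} := connectedComponentIn_subset _ _ hx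
      replace hx1 : G.hom x = G.hom v.1 := hx1
      rw [Scheme.Opens.range_ι]
      refine h x (by rw [hx1]; exact hvU) ?_
      rw [neutralSet_eq]
      change x ∈ connectedComponentIn _ _
      rw [hx1]
      exact hx
    have h1 : _root_.IsPreconnected (V.ι ⁻¹' C) := by
      rw [← V.ι.isOpenEmbedding.isInducing.isPreconnected_image, Set.image_preimage_eq_of_subset hCV]
      exact isPreconnected_connectedComponentIn
    have h2 : V.ι ⁻¹' C ⊆ (res hVU) ⁻¹' {res hVU v} := by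
      intro z hz
      have hz1 : z.1 ∈ G.hom ⁻¹' {G.hom v.1} := connectedComponentIn_subset _ _ hz
      replace hz1 : G.hom z.1 = G.hom v.1 := hz1
      change res hVU z = res hVU v
      apply Subtype.ext
      rw [res_coe, res_coe, hz1]
    have h3 : sec h (res hVU v) ∈ V.ι ⁻¹' C := by
      change (sec h (res hVU v)).1 ∈ C
      rw [sec_coe, res_coe]
      exact mem_connectedComponentIn (hom_unitSec G _)
    exact h1.subset_connectedComponentIn h3 h2 (show v.1 ∈ C from hv)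

end comp

/-- Generic openness of `G⁰`. -/
theorem exists_open_generic [LocallyOfFiniteType G.hom] (s : S) :
    ∃ (U : S.Opens) (O : G.left.Opens), s ∈ U ∧ ∀ x : G.left, G.hom x ∈ U → G.hom x ∈ closure {s} →
      (x ∈ O ↔ x ∈ SGA3x.neutralSet G) := by
  obtain ⟨U, V, hsU, hU, hV, hVU, hN⟩ := exists_qc G s
  have : IsAffine (U : Scheme.{u}) := hU
  have : CompactSpace (V : Scheme.{u}) := isCompact_iff_compactSpace.mp hV
  have : QuasiCompact (res hVU) := inferInstance
  have : LocallyOfFiniteType (res hVU) := by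
    have h : res hVU ≫ U.ι = V.ι ≫ G.hom := Scheme.Hom.resLE_comp_ι _ _
    have : LocallyOfFiniteType (res hVU ≫ U.ι) := by rw [h]; infer_instance
    exact locallyOfFiniteType_of_comp _ U.ι
  let s' : ↥(U : Scheme.{u}) := ⟨s, hsU⟩
  obtain ⟨V₀, hV₀, hsV₀, hV₀o, hcl⟩ := Groth.Agent.S1325.result (res hVU) (sec hN) (sec_res hVU hN) s'
  obtain ⟨A, hA, hA'⟩ := hV₀o
  obtain ⟨B, hB, hB'⟩ := hcl.isOpen
  refine ⟨U.ι ''ᵁ ⟨A, hA⟩, V.ι ''ᵁ ⟨B, hB⟩, ?_, ?_⟩
  · refine ⟨s', ?_, rfl⟩
    exact (Set.ext_iff.mp hA' ⟨s', hV₀ hsV₀⟩).mpr hsV₀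
  · rintro x ⟨t, ht, htx⟩ hxs
    have htx' : t.1 = G.hom x := htx
    have htc : t ∈ closure {s'} := by
      rw [← specializes_iff_mem_closure, ← U.ι.isOpenEmbedding.isInducing.specializes_iff]
      have htx2 : U.ι t = G.hom x := htx
      rw [htx2]
      exact specializes_iff_mem_closure.mpr hxs
    have htV₀ : t ∈ V₀ := by
      exact (Set.ext_iff.mp hA' ⟨t, htc⟩).mp ht
    have key (v : (V : Scheme.{u})) (hv : v.1 = x) :
        v ∈ B ↔ v.1 ∈ SGA3x.neutralSet G := by
      rw [← mem_sectionComponents_iff hVU hN v]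
      have hvV₀ : v ∈ (res hVU) ⁻¹' V₀ := by
        have : res hVU v = t := Subtype.ext (by rw [res_coe, hv, htx'])
        change res hVU v ∈ V₀
        rw [this]; exact htV₀
      exact Set.ext_iff.mp hB' ⟨v, hvV₀⟩
    constructor
    · rintro ⟨v, hv, hvx⟩
      have hvx' : v.1 = x := hvx
      rw [← hvx']
      exact (key v hvx').mp hv
    · intro hx
      have hxV : x ∈ V := hN x (by rw [← htx']; exact t.2) hx
      exact ⟨⟨x, hxV⟩, (key ⟨x, hxV⟩ rfl).mpr hx, rfl⟩

end K276.Neutral
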