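import Groth.Agent.FGA.K276.Neutral1
import Groth.Agent.S2400
import Mathlib.Topology.Constructible

/-!
# The torsion order modulo the neutral component

For a commutative (or not) group scheme `G` locally of finite type over a locally Noetherian base:
`ord G x` is the least `n ≥ 1` such that `[n] x ∈ G⁰` (and `0` if there is none).

* `tor_iff` : `[m] x ∈ G⁰ ↔ ord G x ∣ m`;
* `isLocallyConstructible_ord`;
* `exists_bound` : on a quasi-compact open the finite orders are bounded.
-/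

set_option autoImplicit false
universe u

open CategoryTheory MonoidalCategory CartesianMonoidalCategory MonObj GrpObj AlgebraicGeometry Limits
open Groth.Agent.Sga3.H778 Groth.Agent.Sga3C.HomogIrr Topology

namespace K276.Neutral

variable {S : Scheme.{u}} (G : Over S) [GrpObj G]

open NeutralPts NeutralOpen

/-- The `n`-th power map. -/
noncomputable abbrev pw (n : ℕ) : G.left ⟶ G.left := ((𝟙 G : G ⟶ G) ^ n).left

lemma hom_pw (n : ℕ) (x : G.left) : G.hom (pw G n x) = G.hom x := by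
  rw [← Scheme.Hom.comp_apply, Over.w ((𝟙 G : G ⟶ G) ^ n)]

/-- `[n] x ∈ G⁰`. -/
def Tor (x : G.left) (n : ℕ) : Prop := pw G n x ∈ SGA3x.neutralSet G

variable {G}

lemma tor_zero (x : G.left) : Tor G x 0 := by
  unfold Tor pw
  rw [_root_.pow_zero, Hom.one_def, Over.comp_left]
  exact unitSec_mem (S := S) (G := G) _

lemma Tor.add {x : G.left} {m n : ℕ} (hm : Tor G x m) (hn : Tor G x n) : Tor G x (m + n) := by
  unfold Tor pw
  rw [_root_.pow_add]
  exact mul_mem _ _ x hm hn

lemma Tor.sub {x : G.left} {m n : ℕ} (hm : Tor G x m) (hn : Tor G x (m + n)) : Tor G x n := by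
  have h : ((𝟙 G : G ⟶ G) ^ n) = ((𝟙 G : G ⟶ G) ^ m)⁻¹ * (𝟙 G : G ⟶ G) ^ (m + n) := by
    rw [_root_.pow_add, inv_mul_cancel_left]
  unfold Tor pw
  rw [h]
  exact mul_mem _ _ x (inv_mem _ x hm) hn

lemma Tor.mul {x : G.left} {m : ℕ} (hm : Tor G x m) (k : ℕ) : Tor G x (k * m) := by
  induction k with
  | zero => rw [Nat.zero_mul]; exact tor_zero x
  | succ k ih => rw [Nat.succ_mul]; exact ih.add hm

variable (G) in
/-- The order of `x` modulo `G⁰`. -/
noncomputable def ord (x : G.left) : ℕ := sInf {n | 0 < n ∧ Tor G x n}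

lemma ord_spec {x : G.left} (h : ord G x ≠ 0) : Tor G x (ord G x) := by
  have hne : {n | 0 < n ∧ Tor G x n}.Nonempty := by
    by_contra hcon
    rw [Set.not_nonempty_iff_eq_empty] at hcon
    exact h (by rw [ord, hcon, Nat.sInf_empty])
  exact (Nat.sInf_mem hne).2

lemma tor_iff {x : G.left} {m : ℕ} : Tor G x m ↔ ord G x ∣ m := by
  constructor
  · intro hm
    rcases Nat.eq_zero_or_pos m with rfl | hpos
    · exact dvd_zero _
    have hmem : m ∈ {n | 0 < n ∧ Tor G x n} := ⟨hpos, hm⟩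
    have h0 : 0 < ord G x := (Nat.sInf_mem ⟨m, hmem⟩).1
    have h1 : Tor G x (ord G x) := ord_spec h0.ne'
    rw [Nat.dvd_iff_mod_eq_zero]
    by_contra hr
    have h2 : Tor G x (m % ord G x) := by
      refine (h1.mul (m / ord G x)).sub ?_
      rwa [Nat.div_add_mod' m (ord G x)]
    have h3 : ord G x ≤ m % ord G x := Nat.sInf_le ⟨Nat.pos_of_ne_zero hr, h2⟩
    exact absurd (Nat.mod_lt m h0) (not_lt.mpr h3)
  · rintro ⟨k, rfl⟩
    by_cases h : ord G x = 0
    · rw [h, Nat.zero_mul]; exact tor_zero x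
    · rw [Nat.mul_comm]; exact (ord_spec h).mul k

lemma exists_tor_iff {x : G.left} : (∃ n : ℕ, 0 < n ∧ Tor G x n) ↔ ord G x ≠ 0 := by
  constructor
  · rintro ⟨n, hn, h⟩ h0
    rw [tor_iff, h0, Nat.zero_dvd] at h
    omega
  · intro h
    exact ⟨_, Nat.pos_of_ne_zero h, ord_spec h⟩

/-- The order is locally constant along specializations. -/
theorem ord_const [LocallyOfFiniteType G.hom] (x : G.left) :
    ∃ N : Set G.left, IsOpen N ∧ x ∈ N ∧ ∀ z ∈ N, x ⤳ z → ord G z = ord G x := by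
  obtain ⟨U, O, hsU, hO⟩ := exists_open_generic G (G.hom x)
  have hxs : G.hom x ∈ closure {G.hom x} := subset_closure rfl
  have hup {z : G.left} (hz : G.hom z ∈ U) (hxz : x ⤳ z) (n : ℕ) (h : Tor G z n) : Tor G x n := by
    have hzs : G.hom z ∈ closure {G.hom x} := (hxz.map G.hom.continuous).mem_closure
    have h1 : pw G n z ∈ O := (hO _ (by rwa [hom_pw]) (by rwa [hom_pw])).mpr h
    have h2 : pw G n x ∈ O := (hxz.map (pw G n).continuous).mem_open O.2 h1
    exact (hO _ (by rwa [hom_pw]) (by rwa [hom_pw])).mp h2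
  by_cases h0 : ord G x = 0
  · refine ⟨(G.hom ⁻¹ᵁ U : G.left.Opens), (G.hom ⁻¹ᵁ U).2, hsU, fun z hz hxz => ?_⟩
    rw [h0]
    by_contra hne
    have h1 := hup hz hxz _ (ord_spec hne)
    rw [tor_iff, h0, Nat.zero_dvd] at h1
    exact hne h1
  · refine ⟨(G.hom ⁻¹ᵁ U ⊓ pw G (ord G x) ⁻¹ᵁ O : G.left.Opens), (G.hom ⁻¹ᵁ U ⊓ _ : G.left.Opens).2,
      ⟨hsU, (hO _ (by rwa [hom_pw]) (by rwa [hom_pw])).mpr (ord_spec h0)⟩, ?_⟩
    rintro z ⟨hz, hz'⟩ hxz
    have hzU : G.hom z ∈ U := hz
    have hzs : G.hom z ∈ closure {G.hom x} := (hxz.map G.hom.continuous).mem_closure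
    have h1 : Tor G z (ord G x) := (hO _ (by rwa [hom_pw]) (by rwa [hom_pw])).mp hz'
    have h2 : ord G z ∣ ord G x := tor_iff.mp h1
    have h3 : ord G z ≠ 0 := by
      intro h
      rw [h, Nat.zero_dvd] at h2
      exact h0 h2
    exact Nat.dvd_antisymm h2 (tor_iff.mp (hup hzU hxz _ (ord_spec h3)))

variable [IsLocallyNoetherian S] [LocallyOfFiniteType G.hom]

theorem ord_fin (W : G.left.Opens) (hW : IsCompact (W : Set G.left)) :
    (∀ n, IsConstructible ((fun w : W => ord G w.1) ⁻¹' {n})) ∧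
      (Set.range (fun w : W => ord G w.1)).Finite := by
  have h1 : IsLocallyNoetherian G.left := LocallyOfFiniteType.isLocallyNoetherian G.hom
  have h2 : CompactSpace (W : Scheme.{u}) := isCompact_iff_compactSpace.mp hW
  have h3 : IsNoetherian (W : Scheme.{u}) := {}
  have h4 : TopologicalSpace.NoetherianSpace (W : Scheme.{u}) := inferInstance
  have key := (Groth.Agent.S2400.result (X := (W : Scheme.{u})) (fun w : W => ord G w.1)).mpr ?_
  · exact key
  intro Y hY hYi
  obtain ⟨y, hy⟩ := QuasiSober.sober hYi hY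
  obtain ⟨N, hN, hyN, hc⟩ := ord_const (G := G) (W.ι y)
  have key (a : (W : Scheme.{u})) (ha : a ∈ W.ι ⁻¹' N ∩ Y) : ord G a.1 = ord G y.1 := by
    refine hc _ ha.1 ?_
    exact (hy.specializes ha.2).map W.ι.continuous
  exact ⟨W.ι ⁻¹' N, hN.preimage W.ι.continuous, ⟨y, hyN, hy.mem⟩,
    fun a ha b hb => (key a ha).trans (key b hb).symm⟩

/-- The order function is locally constructible. -/
theorem isLocallyConstructible_ord (n : ℕ) : IsLocallyConstructible {x : G.left | ord G x = n} := by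
  intro x
  obtain ⟨W, hW, hxW, -⟩ := exists_isAffineOpen_mem_and_subset (U := (⊤ : G.left.Opens)) (x := x) trivial
  exact ⟨W, W.2.mem_nhds hxW, W.2, (ord_fin W hW.isCompact).1 n⟩

theorem isLocallyConstructible_neutralSet : IsLocallyConstructible (SGA3x.neutralSet G) := by
  have h : SGA3x.neutralSet G = {x : G.left | ord G x = 1} := by
    ext x
    have h1 : x ∈ SGA3x.neutralSet G ↔ Tor G x 1 := by
      unfold Tor pw
      rw [_root_.pow_one]
      rfl
    rw [h1, tor_iff, Nat.dvd_one]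
    rfl
  rw [h]
  exact isLocallyConstructible_ord 1

/-- On a quasi-compact open, the finite orders are bounded. -/
theorem exists_bound (W : G.left.Opens) (hW : IsCompact (W : Set G.left)) :
    ∃ N : ℕ, 0 < N ∧ ∀ x ∈ W, (∃ n : ℕ, 0 < n ∧ Tor G x n) → Tor G x N := by
  have hf := (ord_fin W hW).2
  refine ⟨∏ n ∈ hf.toFinset.filter (· ≠ 0), n, ?_, ?_⟩
  · exact Finset.prod_pos fun n hn => Nat.pos_of_ne_zero (Finset.mem_filter.mp hn).2
  · intro x hx h
    rw [exists_tor_iff] at h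
    rw [tor_iff]
    refine Finset.dvd_prod_of_mem _ (Finset.mem_filter.mpr ⟨?_, h⟩)
    rw [Set.Finite.mem_toFinset]
    exact ⟨⟨x, hx⟩, rfl⟩

end K276.Neutral
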