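import Groth.Agent.FGA.K276.Neutral3
import Mathlib.Algebra.CharP.Lemmas
import Mathlib.AlgebraicGeometry.ResidueField

/-!
# The sets `G^ρ` and `G^σ`
-/

set_option autoImplicit false
universe u

open CategoryTheory MonoidalCategory CartesianMonoidalCategory MonObj GrpObj AlgebraicGeometry Limits
open Groth.Agent.Sga3.H778 Groth.Agent.Sga3C Groth.Agent.Sga3C.HomogIrr Topology

namespace K276.Neutral

open NeutralPts NeutralOpen

/-- The characteristic exponent of a field is `1` in characteristic zero, or a prime. -/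
lemma expChar_cases {K : Type*} [Field K] {p : ℕ} (hp : ringExpChar K = p) :
    (p = 1 ∧ ∀ q : ℕ, q.Prime → (q : K) ≠ 0) ∨ (p.Prime ∧ ∀ q : ℕ, q.Prime → ((q : K) = 0 ↔ q = p)) := by
  have h1 : CharP K (ringChar K) := ringChar.charP K
  rcases CharP.char_is_prime_or_zero K (ringChar K) with h | h
  · right
    have h2 : p = ringChar K := by
      rw [← hp, ringExpChar, max_eq_left h.one_lt.le]
    rw [h2]
    refine ⟨h, fun q hq => ?_⟩
    rw [CharP.cast_eq_zero_iff K (ringChar K) q, Nat.prime_dvd_prime_iff_eq h hq, eq_comm]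
  · left
    have h2 : p = 1 := by rw [← hp, ringExpChar, h]; rfl
    refine ⟨h2, fun q hq h3 => ?_⟩
    rw [CharP.cast_eq_zero_iff K (ringChar K) q, h, Nat.zero_dvd] at h3
    exact hq.ne_zero h3

/-- The set of points of residue characteristic dividing `q` is closed. -/
theorem isClosed_natCast (S : Scheme.{u}) (q : ℕ) : IsClosed {s : S | (q : S.residueField s) = 0} := by
  have h : {s : S | (q : S.residueField s) = 0} = (S.basicOpen (q : Γ(S, ⊤)) : Set S)ᶜ := by
    ext s
    change _ ↔ ¬ (s ∈ S.basicOpen (q : Γ(S, ⊤)))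
    rw [Scheme.mem_basicOpen_top, map_natCast, ← IsLocalRing.residue_ne_zero_iff_isUnit, map_natCast,
      not_not]
    exact Iff.rfl
  rw [h]
  exact (S.basicOpen _).2.isClosed_compl

/-- The set of points whose characteristic exponent has `d` as a power is closed. -/
theorem isClosed_ringExpChar_pow (S : Scheme.{u}) (p : S → ℕ)
    (hp : ∀ s : S, ringExpChar (S.residueField s) = p s) (d : ℕ) :
    IsClosed {s : S | ∃ h : ℕ, d = p s ^ h} := by
  by_cases hd : d = 1
  · have : {s : S | ∃ h : ℕ, d = p s ^ h} = Set.univ :=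
      Set.eq_univ_of_forall fun s => ⟨0, by rw [hd, _root_.pow_zero]⟩
    rw [this]
    exact isClosed_univ
  by_cases hpp : ∃ (q h : ℕ), h ≠ 0 ∧ q.Prime ∧ d = q ^ h
  · obtain ⟨q, h, h0, hq, hdh⟩ := hpp
    have : {s : S | ∃ h : ℕ, d = p s ^ h} = {s : S | ((q : ℕ) : S.residueField s) = 0} := by
      ext s
      change (∃ h : ℕ, d = p s ^ h) ↔ ((q : ℕ) : S.residueField s) = 0
      rcases expChar_cases (hp s) with ⟨h1, h2⟩ | ⟨h1, h2⟩
      · constructor
        · rintro ⟨k, hk⟩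
          rw [h1, _root_.one_pow] at hk
          exact absurd hk hd
        · intro h3
          exact absurd h3 (h2 q hq)
      · rw [h2 q hq]
        constructor
        · rintro ⟨k, hk⟩
          have h3 : q ∣ p s ^ k := by rw [← hk, hdh]; exact dvd_pow_self q h0
          exact (Nat.prime_dvd_prime_iff_eq hq h1).mp (hq.dvd_of_dvd_pow h3)
        · rintro rfl
          exact ⟨h, hdh⟩
    rw [this]
    exact isClosed_natCast S _
  · have : {s : S | ∃ h : ℕ, d = p s ^ h} = ∅ := by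
      rw [Set.eq_empty_iff_forall_notMem]
      rintro s ⟨k, hk⟩
      rcases expChar_cases (hp s) with ⟨h1, h2⟩ | ⟨h1, h2⟩
      · rw [h1, _root_.one_pow] at hk
        exact hd hk
      · refine hpp ⟨p s, k, ?_, h1, hk⟩
        rintro rfl
        exact hd (by rw [hk, _root_.pow_zero])
    rw [this]
    exact isClosed_empty

variable {S : Scheme.{u}} {G : Over S} [GrpObj G]

lemma Tor.gcd {x : G.left} {m n : ℕ} (hm : Tor G x m) (hn : Tor G x n) : Tor G x (m.gcd n) := by
  rw [tor_iff] at *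
  exact Nat.dvd_gcd hm hn

lemma exists_pow_gcd {S : Scheme.{u}} {s : S} {p : ℕ} (hp : ringExpChar (S.residueField s) = p) (h N : ℕ) :
    ∃ k, (p ^ h).gcd N = p ^ k := by
  rcases expChar_cases hp with ⟨h1, -⟩ | ⟨hq, -⟩
  · exact ⟨0, by rw [h1]; simp⟩
  · obtain ⟨k, -, hk⟩ := (Nat.dvd_prime_pow hq).mp (Nat.gcd_dvd_left (p ^ h) N)
    exact ⟨k, hk⟩

lemma expChar_pos {S : Scheme.{u}} {s : S} {p : ℕ} (hp : ringExpChar (S.residueField s) = p) : 0 < p := by
  rcases expChar_cases hp with ⟨h1, -⟩ | ⟨hq, -⟩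
  · rw [h1]; exact one_pos
  · exact hq.pos

variable [IsLocallyNoetherian S] [LocallyOfFiniteType G.hom]

/-- `G^ρ` is closed if `G⁰` is. -/
theorem isClosed_rho (h0 : IsClosed (SGA3x.neutralSet G)) (p : S → ℕ)
    (hp : ∀ s : S, ringExpChar (S.residueField s) = p s) :
    IsClosed {x : G.left | ∃ h m : ℕ, m = p (G.hom x) ^ h ∧ Tor G x m} := by
  refine isClosed_of_forall_affine _ fun W hW => ?_
  obtain ⟨N, hN, hN'⟩ := exists_bound W hW.isCompact
  refine ⟨⋃ d ∈ (N.divisors : Set ℕ), ({x | Tor G x d} ∩ G.hom ⁻¹' {s : S | ∃ h : ℕ, d = p s ^ h}),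
    ?_, fun x hx => ?_⟩
  · refine Set.Finite.isClosed_biUnion (Finset.finite_toSet _) fun d _ => ?_
    exact (isClosed_tor h0 d).inter ((isClosed_ringExpChar_pow S p hp d).preimage G.hom.continuous)
  · simp only [Set.mem_iUnion]
    constructor
    · rintro ⟨h, m, rfl, hm⟩
      have h1 : Tor G x N := hN' x hx ⟨_, Nat.pow_pos (expChar_pos (hp _)), hm⟩
      refine ⟨(p (G.hom x) ^ h).gcd N, ?_, hm.gcd h1, ?_⟩
      · rw [Finset.mem_coe, Nat.mem_divisors]
        exact ⟨Nat.gcd_dvd_right _ _, hN.ne'⟩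
      · exact exists_pow_gcd (hp _) h N
    · rintro ⟨d, -, hd, h, hh⟩
      exact ⟨h, d, hh, hd⟩

/-- `G^σ` is closed if `G⁰` is (constant residue characteristic). -/
theorem isClosed_sigma (h0 : IsClosed (SGA3x.neutralSet G)) (q : ℕ) :
    IsClosed {x : G.left | ∃ n : ℕ, 0 < n ∧ Nat.Coprime n q ∧ Tor G x n} := by
  refine isClosed_of_forall_affine _ fun W hW => ?_
  obtain ⟨N, hN, hN'⟩ := exists_bound W hW.isCompact
  refine ⟨⋃ d ∈ ((N.divisors.filter fun d => Nat.Coprime d q : Finset ℕ) : Set ℕ), {x | Tor G x d},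
    ?_, fun x hx => ?_⟩
  · exact Set.Finite.isClosed_biUnion (Finset.finite_toSet _) fun d _ => isClosed_tor h0 d
  · simp only [Set.mem_iUnion]
    constructor
    · rintro ⟨n, hn, hnq, hm⟩
      have h1 : Tor G x N := hN' x hx ⟨_, hn, hm⟩
      refine ⟨n.gcd N, ?_, hm.gcd h1⟩
      rw [Finset.mem_coe, Finset.mem_filter, Nat.mem_divisors]
      exact ⟨⟨Nat.gcd_dvd_right _ _, hN.ne'⟩, Nat.Coprime.coprime_dvd_left (Nat.gcd_dvd_left n N) hnq⟩
    · rintro ⟨d, hd, hd'⟩
      rw [Finset.mem_coe, Finset.mem_filter, Nat.mem_divisors] at hd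
      exact ⟨d, Nat.pos_of_dvd_of_pos hd.1.1 hN, hd.2, hd'⟩

end K276.Neutral
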