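import Groth.Agent.FGA.K276.Neutral4

/-!
# Openness of `G^ρ` when the prime-to-`p` power maps are open
-/

set_option autoImplicit false
universe u

open CategoryTheory MonoidalCategory CartesianMonoidalCategory MonObj GrpObj AlgebraicGeometry Limits
open Groth.Agent.Sga3.H778 Groth.Agent.Sga3C Groth.Agent.Sga3C.HomogIrr Topology

namespace K276.Neutral

open NeutralPts NeutralOpen

variable {S : Scheme.{u}} {G : Over S} [GrpObj G]

lemma pw_unitSec (m : ℕ) (s : S) : pw G m (unitSec G s) = unitSec G s := by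
  have h : (η[G] : 𝟙_ (Over S) ⟶ G) ≫ (𝟙 G : G ⟶ G) ^ m = η[G] := by
    rw [comp_pow, Category.comp_id]
    have h1 : (η[G] : 𝟙_ (Over S) ⟶ G) = 1 := by
      rw [Hom.one_def, toUnit_unique (toUnit (𝟙_ (Over S))) (𝟙 _), Category.id_comp]
    rw [h1, _root_.one_pow]
  exact (comp_left_apply (η[G] : 𝟙_ (Over S) ⟶ G) ((𝟙 G : G ⟶ G) ^ m) s).symm.trans (by rw [h]; rfl)

omit [GrpObj G] in
lemma hom_eq_of_prod (w : (G ⊗ G : Over S).left) (f : G ⊗ G ⟶ G) : G.hom (f.left w) = (G ⊗ G : Over S).hom w := by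
  rw [← Scheme.Hom.comp_apply, Over.w f]

/-- If the `m`-th power map is open then it maps `G⁰` onto `G⁰`. -/
theorem exists_preimage_of_isOpenMap [IsCommMonObj G] [LocallyOfFiniteType G.hom] {m : ℕ}
    (hopen : IsOpenMap (pw G m)) {z : G.left} (hz : z ∈ SGA3x.neutralSet G) :
    ∃ y ∈ SGA3x.neutralSet G, pw G m y = z := by
  obtain ⟨U, O, hsU, hO⟩ := exists_open_generic G (G.hom z)
  have hcl : G.hom z ∈ closure {G.hom z} := subset_closure rfl
  have he : unitSec G (G.hom z) ∈ pw G m '' (O : Set G.left) :=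
    ⟨unitSec G (G.hom z), (hO _ (by rwa [hom_unitSec]) (by rwa [hom_unitSec])).mpr (unitSec_mem _),
      pw_unitSec m _⟩
  obtain ⟨w, hw1, hw2, hw⟩ := exists_mul_eq z hz _ (hopen _ O.2) he
  let a : opn G O ⟶ G := opnι G O ≫ (𝟙 G : G ⟶ G) ^ m
  have ha : Set.range a.left = pw G m '' (O : Set G.left) := by
    ext x
    constructor
    · rintro ⟨y, rfl⟩
      exact ⟨y.1, y.2, rfl⟩
    · rintro ⟨y, hy, rfl⟩
      exact ⟨⟨y, hy⟩, rfl⟩
  have hr : w ∈ Set.range (a ⊗ₘ a).left := by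
    rw [Over.tensorHom_left, Scheme.Pullback.range_map]
    refine ⟨?_, ?_⟩
    · change _ ∈ Set.range a.left
      rw [ha]; exact hw1
    · change _ ∈ Set.range a.left
      rw [ha]; exact hw2
  obtain ⟨v, hv⟩ := hr
  have hzw : G.hom z = (G ⊗ G : Over S).hom w := by rw [← hw]; exact hom_eq_of_prod w _
  have hz1 : G.hom ((fst G G).left w) = G.hom z := by rw [hzw]; exact hom_eq_of_prod w _
  have hz2 : G.hom ((snd G G).left w) = G.hom z := by rw [hzw]; exact hom_eq_of_prod w _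
  have hv1 : (fst (opn G O) (opn G O) ≫ a).left v = (fst G G).left w := by
    rw [← hv, ← comp_left_apply, tensorHom_fst]
  have hv2 : (snd (opn G O) (opn G O) ≫ a).left v = (snd G G).left w := by
    rw [← hv, ← comp_left_apply, tensorHom_snd]
  have hp1 : (fst (opn G O) (opn G O) ≫ opnι G O).left v ∈ SGA3x.neutralSet G := by
    have h1 : G.hom ((fst (opn G O) (opn G O) ≫ opnι G O).left v) = G.hom z := by
      rw [← hz1, ← hv1, ← hom_pw G m]
      rfl
    refine (hO _ (by rwa [h1]) (by rwa [h1])).mp ?_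
    exact ((fst (opn G O) (opn G O)).left v).2
  have hp2 : (snd (opn G O) (opn G O) ≫ opnι G O).left v ∈ SGA3x.neutralSet G := by
    have h1 : G.hom ((snd (opn G O) (opn G O) ≫ opnι G O).left v) = G.hom z := by
      rw [← hz2, ← hv2, ← hom_pw G m]
      rfl
    refine (hO _ (by rwa [h1]) (by rwa [h1])).mp ?_
    exact ((snd (opn G O) (opn G O)).left v).2
  refine ⟨(mulMap G O).left v, mul_mem _ _ v hp1 hp2, ?_⟩
  change ((𝟙 G : G ⟶ G) ^ m).left ((mulMap G O).left v) = z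
  rw [← comp_left_apply, ← hw, ← hv, ← comp_left_apply]
  congr 2
  rw [comp_pow, Category.comp_id, mulMap, mul_pow, comp_mul, tensorHom_fst, tensorHom_snd]
  have ha' (f : opn G O ⊗ opn G O ⟶ opn G O) : f ≫ a = (f ≫ opnι G O) ^ m := by
    change f ≫ (opnι G O ≫ (𝟙 G : G ⟶ G) ^ m) = _
    rw [comp_pow, Category.comp_id, comp_pow]
  rw [ha', ha']

variable [IsLocallyNoetherian S] [LocallyOfFiniteType G.hom]

theorem isLocallyConstructible_ord_mem (T : Set ℕ) : IsLocallyConstructible {x : G.left | ord G x ∈ T} := by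
  intro x
  obtain ⟨W, hW, hxW, -⟩ := exists_isAffineOpen_mem_and_subset (U := (⊤ : G.left.Opens)) (x := x) trivial
  refine ⟨W, W.2.mem_nhds hxW, W.2, ?_⟩
  obtain ⟨h1, h2⟩ := ord_fin W hW.isCompact
  have h3 : (Subtype.val ⁻¹' {x : G.left | ord G x ∈ T} : Set W) =
      ⋃ n ∈ Set.range (fun w : W => ord G w.1) ∩ T, (fun w : W => ord G w.1) ⁻¹' {n} := by
    ext w
    constructor
    · intro hw
      exact Set.mem_biUnion (x := ord G w.1) ⟨⟨w, rfl⟩, hw⟩ rfl
    · intro hw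
      obtain ⟨n, ⟨-, hn⟩, hw⟩ := Set.mem_iUnion₂.mp hw
      have hw' : ord G w.1 = n := hw
      change ord G w.1 ∈ T
      rw [hw']; exact hn
  exact h3 ▸ IsConstructible.biUnion (h2.inter_of_left T) fun n _ => h1 n

/-- `G^ρ` is open if the prime to `p` power maps are open. -/
theorem isOpen_rho [IsCommMonObj G] (p : ℕ) (hS : ∀ s : S, ringExpChar (S.residueField s) = p)
    (hopen : ∀ n : ℕ, 0 < n → Nat.Coprime n p → IsOpenMap (pw G n)) :
    IsOpen {x : G.left | ∃ h : ℕ, Tor G x (p ^ h)} := by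
  have hc : IsLocallyConstructible {x : G.left | ∃ h : ℕ, Tor G x (p ^ h)} := by
    have : {x : G.left | ∃ h : ℕ, Tor G x (p ^ h)} = {x : G.left | ord G x ∈ {n : ℕ | ∃ h, n ∣ p ^ h}} := by
      ext x
      exact exists_congr fun h => tor_iff
    rw [this]
    exact isLocallyConstructible_ord_mem _
  rw [isOpen_iff_mem_nhds]
  rintro x ⟨h, hx⟩
  rw [← mem_interior_iff_mem_nhds]
  refine Groth.Agent.Flat2D.ConstrGen.mem_interior_of_forall_specializes hc fun x' hx' => ?_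
  have hp0 : 0 < p := expChar_pos (hS (G.hom x))
  have hx'τ : x' ∈ tau G := hx'.mem_open isOpen_tau ⟨_, Nat.pow_pos hp0, hx⟩
  obtain ⟨a, ha, hxa⟩ := hx'τ
  obtain ⟨U, V, hsU, hU, hV, hVU, hN⟩ := exists_qc G (G.hom x)
  obtain ⟨N, hN0, hN'⟩ := exists_bound V hV
  -- N = p ^ b * m
  obtain ⟨b, m, hm, hNm⟩ : ∃ b m : ℕ, Nat.Coprime m p ∧ N = p ^ b * m := by
    rcases expChar_cases (hS (G.hom x)) with ⟨h1, -⟩ | ⟨hq, -⟩
    · exact ⟨0, N, by rw [h1]; exact Nat.coprime_one_right _, by simp⟩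
    · obtain ⟨b, m, hm, hNm⟩ := Nat.exists_eq_pow_mul_and_not_dvd hN0.ne' p hq.ne_one
      exact ⟨b, m, ((hq.coprime_iff_not_dvd).mpr hm).symm, hNm⟩
  have hm0 : 0 < m := by
    rcases Nat.eq_zero_or_pos m with rfl | h
    · omega
    · exact h
  have hop := hopen m hm0 hm
  obtain ⟨y, hy, hyz⟩ := exists_preimage_of_isOpenMap hop hx
  have hyV : y ∈ V := by
    refine hN y ?_ hy
    rw [← hom_pw G m, hyz, hom_pw]; exact hsU
  have hz' : pw G (p ^ h) x' ∈ pw G m '' (V : Set G.left) := by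
    refine (hx'.map (pw G (p ^ h)).continuous).mem_open (hop _ V.2) ?_
    exact ⟨y, hyV, hyz⟩
  obtain ⟨y', hy'V, hy'⟩ := hz'
  have hpw (i j : ℕ) (t : G.left) : pw G i (pw G j t) = pw G (j * i) t := by
    rw [← comp_left_apply, comp_pow, Category.comp_id, ← _root_.pow_mul]
  have h1 : Tor G y' N := by
    refine hN' y' hy'V ⟨m * a, Nat.mul_pos hm0 ha, ?_⟩
    unfold Tor
    rw [← hpw, hy', hpw]
    exact hxa.mul (p ^ h)
  refine ⟨h + b, ?_⟩
  unfold Tor at h1 ⊢
  rw [hNm, Nat.mul_comm, ← hpw, hy', hpw, ← _root_.pow_add] at h1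
  exact h1

end K276.Neutral
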