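import Groth.Agent.FGA.K276.Neutral2
import Groth.Agent.Sga3.H806.ApproxConn

/-!
# The neutral component over a nonempty open subset
-/

set_option autoImplicit false
universe u

open CategoryTheory MonoidalCategory CartesianMonoidalCategory MonObj GrpObj AlgebraicGeometry Limits
open Groth.Agent.Sga3.H778 Groth.Agent.Sga3C Groth.Agent.Sga3C.HomogIrr Topology

namespace K276.Neutral

open NeutralPts NeutralOpen

/-- A nonempty locally Noetherian space has a point with an open neighbourhood in its closure. -/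
theorem exists_generic_open (S : Scheme.{u}) [IsLocallyNoetherian S] [Nonempty ↥S] :
    ∃ (s : S) (U : S.Opens), s ∈ U ∧ IsAffineOpen U ∧ ∀ x ∈ U, x ∈ closure {s} := by
  obtain ⟨s₀⟩ := ‹Nonempty ↥S›
  obtain ⟨W, hW, hsW, -⟩ := exists_isAffineOpen_mem_and_subset (U := (⊤ : S.Opens)) (x := s₀) trivial
  have h2 : CompactSpace (W : Scheme.{u}) := isCompact_iff_compactSpace.mp hW.isCompact
  have h3 : IsNoetherian (W : Scheme.{u}) := {}
  have h4 : TopologicalSpace.NoetherianSpace (W : Scheme.{u}) := inferInstance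
  let w₀ : (W : Scheme.{u}) := ⟨s₀, hsW⟩
  let Z := irreducibleComponent w₀
  have hZ : Z ∈ irreducibleComponents (W : Scheme.{u}) := irreducibleComponent_mem_irreducibleComponents w₀
  obtain ⟨V, hV, ⟨v, hv⟩, hVZ⟩ :=
    TopologicalSpace.NoetherianSpace.exists_isOpen_nonempty_subset_irreducibleComponent Z hZ
  obtain ⟨z, hz⟩ := QuasiSober.sober isIrreducible_irreducibleComponent (isClosed_irreducibleComponent (x := w₀))
  have hzV : z ∈ V := (hz.specializes (hVZ hv)).mem_open hV hv
  obtain ⟨U, hU, hzU, hUV⟩ := exists_isAffineOpen_mem_and_subset (U := W.ι ''ᵁ ⟨V, hV⟩) (x := W.ι z)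
    ⟨z, hzV, rfl⟩
  refine ⟨W.ι z, U, hzU, hU, ?_⟩
  intro x hx
  obtain ⟨y, hy, rfl⟩ := hUV hx
  exact ((hz.specializes (hVZ hy)).map W.ι.continuous).mem_closure

theorem exists_openSubgroup (S : Scheme.{u}) [IsLocallyNoetherian S] [Nonempty ↥S]
    (G : Over S) [GrpObj G] [LocallyOfFiniteType G.hom] :
    ∃ U : S.Opens, (U : Set ↥S).Nonempty ∧
      ∃ (H : Over (U : Scheme.{u})) (_ : GrpObj H) (i : H ⟶ Red.bc U.ι G), IsMonHom i ∧ IsOpenImmersion i.left ∧
        QuasiCompact H.hom ∧ LocallyOfFiniteType H.hom ∧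
        (∀ u : ↥(U : Scheme.{u}), _root_.IsConnected (H.hom.base ⁻¹' {u})) ∧
        Set.range (i.left ≫ pullback.fst G.hom U.ι).base = SGA3x.neutralSet G ∩ G.hom.base ⁻¹' (U : Set ↥S) := by
  obtain ⟨s, U₀, hsU₀, hU₀, hU₀s⟩ := exists_generic_open S
  obtain ⟨U₁, O, hsU₁, hO⟩ := exists_open_generic G s
  obtain ⟨U₂, V, hsU₂, hU₂, hV, hVU, hN⟩ := exists_qc G s
  let U : S.Opens := U₀ ⊓ U₁ ⊓ U₂
  have hsU : s ∈ U := ⟨⟨hsU₀, hsU₁⟩, hsU₂⟩
  let G' := Red.bc U.ι G
  let q : G'.left ⟶ G.left := pullback.fst G.hom U.ι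
  have hq : q ⁻¹' SGA3x.neutralSet G = SGA3x.neutralSet G' :=
    Groth.Agent.Sga3.H806.ApproxConn.preimage_neutralSet U.ι G
  have hqr : Set.range q = G.hom ⁻¹' (U : Set S) := by
    rw [Scheme.Pullback.range_fst, Scheme.Opens.range_ι]
  have hqU (x : G'.left) : G.hom (q x) ∈ U := by
    have : q x ∈ Set.range q := ⟨x, rfl⟩
    rw [hqr] at this
    exact this
  have hopen : IsOpen (SGA3x.neutralSet G') := by
    have h1 : SGA3x.neutralSet G' = q ⁻¹' (O : Set G.left) := by
      rw [← hq]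
      ext x
      exact (hO (q x) (hqU x).1.2 (hU₀s _ (hqU x).1.1)).symm
    rw [h1]
    exact O.2.preimage q.continuous
  obtain ⟨hgrp, hmon⟩ := exists_grpObj (G := G') hopen
  have hrange : Set.range ((opnι G' (neutral G' hopen)).left ≫ pullback.fst G.hom U.ι).base =
      SGA3x.neutralSet G ∩ G.hom.base ⁻¹' (U : Set ↥S) := by
    ext x
    constructor
    · rintro ⟨y, rfl⟩
      have h1 : y.1 ∈ SGA3x.neutralSet G' := y.2
      rw [← hq] at h1
      exact ⟨h1, hqU y.1⟩
    · rintro ⟨hx, hxU⟩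
      have h1 : x ∈ Set.range q := by rw [hqr]; exact hxU
      obtain ⟨y, rfl⟩ := h1
      have h2 : y ∈ SGA3x.neutralSet G' := by rw [← hq]; exact hx
      exact ⟨⟨y, h2⟩, rfl⟩
  refine ⟨U, ⟨s, hsU⟩, opn G' (neutral G' hopen), hgrp, opnι G' (neutral G' hopen), hmon,
    inferInstance, ?_, ?_, isConnected_fibre G' hopen, hrange⟩
  · -- quasi-compactness: the source is a Noetherian space
    have h1 : IsLocallyNoetherian G.left := LocallyOfFiniteType.isLocallyNoetherian G.hom
    have h2 : CompactSpace (V : Scheme.{u}) := isCompact_iff_compactSpace.mp hV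
    have h3 : IsNoetherian (V : Scheme.{u}) := {}
    let j : (opn G' (neutral G' hopen)).left ⟶ G.left := (opnι G' (neutral G' hopen)).left ≫ q
    have : IsOpenImmersion q := inferInstanceAs (IsOpenImmersion (pullback.fst G.hom U.ι))
    have : IsOpenImmersion j := inferInstance
    have hj : Set.range j ⊆ Set.range V.ι := by
      rw [Scheme.Opens.range_ι]
      intro x hx
      have hx' : x ∈ SGA3x.neutralSet G ∩ G.hom.base ⁻¹' (U : Set ↥S) := by
        rw [← hrange]; exact hx
      exact hN x hx'.2.2 hx'.1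
    let j' : (opn G' (neutral G' hopen)).left ⟶ (V : Scheme.{u}) := IsOpenImmersion.lift V.ι j hj
    have hj' : j' ≫ V.ι = j := IsOpenImmersion.lift_fac _ _ _
    have : IsOpenImmersion (j' ≫ V.ι) := hj' ▸ inferInstance
    have : IsOpenImmersion j' := IsOpenImmersion.of_comp j' V.ι
    have h5 : TopologicalSpace.NoetherianSpace (V : Scheme.{u}) := inferInstance
    have h4 : TopologicalSpace.NoetherianSpace (opn G' (neutral G' hopen)).left :=
      j'.isOpenEmbedding.isInducing.noetherianSpace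
    exact ⟨fun W _ _ => TopologicalSpace.NoetherianSpace.isCompact _⟩
  · have h1 : LocallyOfFiniteType G'.hom :=
      inferInstanceAs (LocallyOfFiniteType (pullback.snd G.hom U.ι))
    have h2 : LocallyOfFiniteType ((neutral G' hopen).ι ≫ G'.hom) := inferInstance
    exact h2

end K276.Neutral
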