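import Groth.Agent.FGA.K276.Neutral2
import Groth.Agent.Sga3.H806.ApproxConn
import Groth.Agent.Sga3.H820.NeutralOpen
import Groth.Agent.S2587
import Groth.Agent.Ega43.OpenUniv
import Groth.Agent.CycB.RelDim4
import Groth.Agent.CycB.SpCore
import Mathlib.RingTheory.Ideal.KrullsHeightTheorem
import Mathlib.RingTheory.KrullDimension.PID

/-!
# Group schemes universally open along the neutral component

If `G → S` (locally of finite type, `S` locally Noetherian) is universally open at the points of `G⁰`
then the dimension of the fibres is constant along specializations; if moreover `G⁰` is closed then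
`G⁰ → S` is universally open.
-/

set_option autoImplicit false
universe u

open CategoryTheory MonoidalCategory CartesianMonoidalCategory MonObj GrpObj AlgebraicGeometry Limits
open Groth.Agent.Sga3.H778 Groth.Agent.Sga3C Groth.Agent.Sga3C.HomogIrr Topology

namespace K276.Neutral

open NeutralPts NeutralOpen Groth.Agent.CycB.RelDim Groth.Agent.S3022 Groth.Agent.Ega43.OpenAt

/-- The local rings of the spectrum of a discrete valuation ring have dimension at most one. -/
lemma dim_stalk_dvr (R : Type u) [CommRing R] [IsDomain R] [IsDiscreteValuationRing R]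
    (c : Spec (CommRingCat.of R)) : ringKrullDim ((Spec (CommRingCat.of R)).presheaf.stalk c) ≤ 1 := by
  have hp : (c : PrimeSpectrum R).asIdeal.IsPrime := (c : PrimeSpectrum R).isPrime
  have e : (Spec (CommRingCat.of R)).presheaf.stalk c ≃+* Localization.AtPrime (c : PrimeSpectrum R).asIdeal :=
    (StructureSheaf.stalkIso R c).symm.toRingEquiv
  rw [ringKrullDim_eq_of_ringEquiv e,
    IsLocalization.AtPrime.ringKrullDim_eq_height (c : PrimeSpectrum R).asIdeal]
  refine (Ideal.height_le_ringKrullDim_of_isPrime).trans ?_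
  rw [IsPrincipalIdealRing.ringKrullDim_eq_one R (IsDiscreteValuationRing.not_isField R)]

section dim

variable {S : Scheme.{u}} (G : Over S) [GrpObj G] [IsLocallyNoetherian S] [LocallyOfFiniteType G.hom]

omit [GrpObj G] [IsLocallyNoetherian S] in
/-- Points of the fibre at `s` have transcendence degree at most the dimension of the fibre. -/
lemma rtd_le_dim {s : S} {d : ℕ} (hd : ∀ x : G.left, G.hom x = s → FibGeneric G.hom x → rtd G.hom x = d)
    {x : G.left} (hx : G.hom x = s) : rtd G.hom x ≤ d := by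
  obtain ⟨x', h1, h2, h3⟩ := exists_fibGeneric_specializes G.hom x
  rw [← hd x' (h2.trans hx) h3]
  exact Groth.Agent.VarietyA.LocDim.rtd_le_of_specializes G.hom h1 h2

/-- The dimension of the fibres is constant along specializations if `G` is universally open along `G⁰`. -/
theorem dim_eq_of_specializes (hop : ∀ x ∈ SGA3x.neutralSet G, EGA43.IsUnivOpenAt G.hom x) {y s : S}
    (hys : y ⤳ s) : topologicalKrullDim (G.hom ⁻¹' {y}) = topologicalKrullDim (G.hom ⁻¹' {s}) := by
  by_cases hne : y = s
  · rw [hne]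
  obtain ⟨a, ha, ha'⟩ := exists_dim G y
  obtain ⟨b, hb, hb'⟩ := exists_dim G s
  rw [dim_fiber] at ha hb
  rw [ha, hb]
  have hab : a ≤ b := by
    obtain ⟨ξ, h1, h2, h3⟩ := exists_fibGeneric_specializes G.hom (unitSec G y)
    rw [hom_unitSec] at h2
    have h4 : ξ ⤳ unitSec G s := h1.trans (hys.map (unitSec G).continuous)
    obtain ⟨ζ, -, -, h7, h8⟩ := Groth.Agent.Sga3.H820.NeutralOpen.exists_rtd_ge G.hom h4
    rw [hom_unitSec] at h7
    rw [ha' ξ h2 h3] at h8
    exact_mod_cast h8.trans (rtd_le_dim G hb' h7)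
  have hba : b ≤ a := by
    have hφ : (𝟙 (S.residueField y) : S.residueField y ⟶ CommRingCat.of (S.residueField y)).hom.EssFiniteType := by
      exact (RingHom.FiniteType.id _).essFiniteType
    obtain ⟨R, _, _, _, _, _, g, hgc, hgη⟩ := Groth.Agent.Ega43.DvrScheme.exists_dvr_of_specializes hys hne
      (S.residueField y) (𝟙 _) hφ
    let T : Over S := Over.mk g
    let c : T.left := IsLocalRing.closedPoint R
    have hTc : T.hom c = s := hgc
    have hη (t : T.left) (ht : t ≠ c) : T.hom t = y := by
      have h1 : (t : PrimeSpectrum R).asIdeal = ⊥ :=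
        Groth.Agent.S2587.eq_bot_of_ne_closedPoint (t : PrimeSpectrum R) ht
      obtain ⟨w⟩ : Nonempty (Spec (CommRingCat.of (S.residueField y))) := inferInstance
      have h2 : Spec.map (CommRingCat.ofHom (algebraMap R (S.residueField y))) w = t := by
        apply PrimeSpectrum.ext
        rw [h1]
        change Ideal.comap (algebraMap R (S.residueField y)) (w : PrimeSpectrum (S.residueField y)).asIdeal = ⊥
        have h3 : (w : PrimeSpectrum (S.residueField y)).asIdeal = ⊥ := by
          have := (w : PrimeSpectrum (S.residueField y)).isPrime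
          exact Ideal.eq_bot_of_prime _
        rw [h3, ← RingHom.ker_eq_comap_bot]
        exact (RingHom.injective_iff_ker_eq_bot _).mp (IsFractionRing.injective R (S.residueField y))
      rw [← h2]
      have h4 := congr($hgη w)
      rw [Scheme.Hom.comp_apply, Scheme.Hom.comp_apply] at h4
      refine h4.trans ?_
      exact Scheme.fromSpecResidueField_apply _ _
    -- a generic point of the special fibre
    have hfst : LocallyOfFiniteType (fst T G).left :=
      MorphismProperty.of_isPullback (isPullback_snd T G) ‹LocallyOfFiniteType G.hom›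
    have hfe : (fst T G).left ((oneSec T G).left c) = c := by
      rw [← comp_left_apply, oneSec, lift_fst]; rfl
    obtain ⟨t, ht1, ht2, ht3⟩ := exists_fibGeneric_specializes (fst T G).left ((oneSec T G).left c)
    rw [hfe] at ht2
    have hTG (z : (T ⊗ G : Over S).left) : G.hom ((snd T G).left z) = T.hom ((fst T G).left z) := by
      have h1 := congr($(Over.w (snd T G)) z)
      have h2 := congr($(Over.w (fst T G)) z)
      rw [Scheme.Hom.comp_apply] at h1 h2
      rw [h1, h2]
    have hts : G.hom ((snd T G).left t) = s := by rw [hTG, ht2, hTc]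
    have htn : (snd T G).left t ∈ SGA3x.neutralSet G := by
      rw [Groth.Agent.Sga3.H820.NeutralOpen.mem_neutralSet_iff, hts]
      refine Groth.Agent.Sga3.H820.NeutralOpen.mem_neutral_of_specializes G
        (Groth.Agent.Sga3.H820.NeutralOpen.e_mem G s) hts ?_
      have h1 := ht1.map (snd T G).left.continuous
      have h2 : (snd T G).left ((oneSec T G).left c) = Groth.Agent.Sga3.H820.NeutralOpen.e G s := by
        rw [← comp_left_apply, oneSec, lift_snd, Hom.one_def, Over.comp_left]
        rw [Scheme.Hom.comp_apply]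
        have : (toUnit T).left c = s := hTc
        rw [this]
      rwa [h2] at h1
    -- openness
    have hopen : EGA43.IsOpenAt (fst T G).left t :=
      Groth.Agent.Ega43.UnivOpenAt.isOpenAt_of_isPullback (hop _ htn) (isPullback_snd T G) t rfl
    have hgen := genAt_of_isOpenAt _ _ hopen
    have hTloc : IsLocallyNoetherian T.left := inferInstanceAs (IsLocallyNoetherian (Spec (CommRingCat.of R)))
    have hPloc : IsLocallyNoetherian (T ⊗ G : Over S).left := LocallyOfFiniteType.isLocallyNoetherian (fst T G).left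
    obtain ⟨z, hz1, hz2⟩ : ∃ z : (T ⊗ G : Over S).left, z ⤳ t ∧ (fst T G).left z ≠ c := by
      let s' : Set T.left := {c}ᶜ
      have hso : IsOpen s' := (IsLocalRing.isClosed_singleton_closedPoint R).isOpen_compl
      have hNT : TopologicalSpace.NoetherianSpace T.left :=
        inferInstanceAs (TopologicalSpace.NoetherianSpace (Spec (CommRingCat.of R)))
      have hs' : Topology.IsConstructible s' :=
        (TopologicalSpace.NoetherianSpace.isCompact s').isConstructible hso
      have hE := (Scheme.Hom.isConstructible_preimage (fst T G).left hs').isLocallyConstructible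
      obtain ⟨z, hz, hzx⟩ := exists_specializes_of_isLocallyConstructible hE (x := t) (by
        rw [mem_closure_iff]
        intro U hU hxU
        obtain ⟨z, hz, hzy⟩ := hgen ⟨U, hU⟩ hxU (⊥ : PrimeSpectrum R) (by
          have : (⊥ : PrimeSpectrum R) ⤳ IsLocalRing.closedPoint R :=
            IsLocalRing.specializes_closedPoint _
          exact this.trans (specializes_of_eq ht2.symm))
        refine ⟨z, hz, ?_⟩
        change (fst T G).left z ≠ IsLocalRing.closedPoint R
        rw [hzy]
        intro h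
        have h2 := congrArg PrimeSpectrum.asIdeal h
        exact IsDiscreteValuationRing.not_a_field R h2.symm)
      exact ⟨z, hzx, hz⟩
    have hzy : G.hom ((snd T G).left z) = y := by rw [hTG, hη _ hz2]
    have h1 : rtd (fst T G).left t ≤ rtd (fst T G).left z := by
      refine Groth.Agent.Ega43.OpenUniv.rtd_le_rtd (fst T G).left hz1 ?_
      have hzt : z ≠ t := by
        rintro rfl
        exact hz2 ht2
      refine le_trans ?_ (Groth.Agent.CycB.SpCore.one_le_ringKrullDim_locQuot hz1 hzt)
      exact dim_stalk_dvr R ((fst T G).left t)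
    obtain ⟨z₂, hz₂1, hz₂2, hz₂3⟩ := exists_fibGeneric_specializes (fst T G).left z
    have h2 : rtd (fst T G).left z ≤ rtd (fst T G).left z₂ :=
      Groth.Agent.VarietyA.LocDim.rtd_le_of_specializes (fst T G).left hz₂1 hz₂2
    have h3 : rtd (fst T G).left z₂ = rtd G.hom ((snd T G).left z₂) := rtd_fst_of_fibGeneric_fst hz₂3
    have h4 : rtd (fst T G).left t = rtd G.hom ((snd T G).left t) := rtd_fst_of_fibGeneric_fst ht3
    have h5 : rtd G.hom ((snd T G).left z₂) = a := by
      refine ha' _ ?_ (FibGeneric.snd hz₂3)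
      rw [hTG, hz₂2, hη _ hz2]
    have h6 : rtd G.hom ((snd T G).left t) = b := hb' _ hts (FibGeneric.snd ht3)
    rw [h4, h6] at h1
    rw [h3, h5] at h2
    exact_mod_cast h1.trans h2
  exact_mod_cast le_antisymm hab hba

end dim

section univ

variable {S : Scheme.{u}} {G : Over S} [GrpObj G] [IsLocallyNoetherian S] [LocallyOfFiniteType G.hom]

omit [IsLocallyNoetherian S] [LocallyOfFiniteType G.hom] in
/-- Universal openness along `G⁰` is preserved by base change. -/
theorem isUnivOpenAt_bc (hop : ∀ x ∈ SGA3x.neutralSet G, EGA43.IsUnivOpenAt G.hom x) {S' : Scheme.{u}}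
    (q : S' ⟶ S) : ∀ x ∈ SGA3x.neutralSet (Red.bc q G), EGA43.IsUnivOpenAt (Red.bc q G).hom x := by
  intro x hx
  rw [← Groth.Agent.Sga3.H806.ApproxConn.preimage_neutralSet q G] at hx
  exact Groth.Agent.Ega43.UnivOpenAt.isUnivOpenAt_of_isPullback (hop _ hx)
    (IsPullback.of_hasPullback G.hom q) x rfl

/-- Points of `G⁰` lift along specializations of the base. -/
theorem exists_specializes (hop : ∀ x ∈ SGA3x.neutralSet G, EGA43.IsUnivOpenAt G.hom x) {x : G.left}
    (hx : x ∈ SGA3x.neutralSet G) {y : S} (hy : y ⤳ G.hom x) :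
    ∃ ξ ∈ SGA3x.neutralSet G, ξ ⤳ x ∧ G.hom ξ = y := by
  obtain ⟨ξ, hξ, h⟩ := Groth.Agent.Sga3.H820.NeutralOpen.exists_specializes G hy
    (dim_eq_of_specializes G hop hy)
  have hξy := Groth.Agent.Sga3.H820.NeutralOpen.hom_of_mem G hξ
  refine ⟨ξ, ?_, h x ((Groth.Agent.Sga3.H820.NeutralOpen.mem_neutralSet_iff G x).mp hx), hξy⟩
  rw [Groth.Agent.Sga3.H820.NeutralOpen.mem_neutralSet_iff, hξy]
  exact hξ

/-- If `G⁰` is closed and `G` is universally open along `G⁰` then `G⁰ → S` is universally open. -/
theorem isUnivOpenAt_closed (hop : ∀ x ∈ SGA3x.neutralSet G, EGA43.IsUnivOpenAt G.hom x)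
    {Z : Scheme.{u}} (i : Z ⟶ G.left) [IsClosedImmersion i] (hi : Set.range i = SGA3x.neutralSet G) (z : Z) :
    EGA43.IsUnivOpenAt (i ≫ G.hom) z := by
  have h1 : LocallyOfFinitePresentation (i ≫ G.hom) := inferInstance
  rw [Groth.Agent.Ega43.OpenAtFT.isUnivOpenAt_iff_affineSpace]
  intro n x₀ hx₀ U hxU y hy
  let p : 𝔸(ULift.{u} (Fin n); S) ⟶ S := 𝔸(ULift.{u} (Fin n); S) ↘ S
  let m := AffineSpace.map (ULift.{u} (Fin n)) (i ≫ G.hom)
  let G' := Red.bc p G
  have hloc : IsLocallyNoetherian 𝔸(ULift.{u} (Fin n); S) := by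
    have : LocallyOfFiniteType p := inferInstance
    exact LocallyOfFiniteType.isLocallyNoetherian p
  have hlft : LocallyOfFiniteType G'.hom := inferInstanceAs (LocallyOfFiniteType (pullback.snd G.hom p))
  have sq : IsPullback (𝔸(ULift.{u} (Fin n); Z) ↘ Z) m (i ≫ G.hom) p :=
    (AffineSpace.isPullback_map (i ≫ G.hom)).flip
  let a : 𝔸(ULift.{u} (Fin n); Z) ⟶ G'.left :=
    pullback.lift ((𝔸(ULift.{u} (Fin n); Z) ↘ Z) ≫ i) m (by rw [Category.assoc]; exact sq.w)
  have ha1 : a ≫ pullback.fst G.hom p = (𝔸(ULift.{u} (Fin n); Z) ↘ Z) ≫ i := pullback.lift_fst _ _ _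
  have ha2 : a ≫ G'.hom = m := pullback.lift_snd _ _ _
  have sq2 : IsPullback (𝔸(ULift.{u} (Fin n); Z) ↘ Z) a i (pullback.fst G.hom p) := by
    refine IsPullback.of_bot ?_ ha1.symm (IsPullback.of_hasPullback G.hom p)
    have h2 : a ≫ pullback.snd G.hom p = m := ha2
    rw [h2]
    exact sq
  have hclosed : IsClosedImmersion a := MorphismProperty.of_isPullback sq2 ‹IsClosedImmersion i›
  have hra : Set.range a = SGA3x.neutralSet G' := by
    rw [← Groth.Agent.Sga3.H806.ApproxConn.preimage_neutralSet p G, ← hi]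
    have h2 : a = sq2.isoPullback.hom ≫ pullback.snd i (pullback.fst G.hom p) := by
      rw [IsPullback.isoPullback_hom_snd]
    rw [← Scheme.Pullback.range_snd, h2]
    ext y
    constructor
    · rintro ⟨w, rfl⟩
      exact ⟨sq2.isoPullback.hom w, (Scheme.Hom.comp_apply _ _ _).symm⟩
    · rintro ⟨w, rfl⟩
      obtain ⟨v, rfl⟩ := sq2.isoPullback.hom.surjective w
      exact ⟨v, Scheme.Hom.comp_apply _ _ _⟩
  have hop' := isUnivOpenAt_bc hop p
  have hax : a x₀ ∈ SGA3x.neutralSet G' := by rw [← hra]; exact ⟨x₀, rfl⟩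
  have hGa (w) : G'.hom (a w) = m w := by rw [← Scheme.Hom.comp_apply, ha2]
  obtain ⟨ξ, hξ, hξx, hξy⟩ := exists_specializes (G := G') hop' hax (y := y) (by rw [hGa]; exact hy)
  rw [← hra] at hξ
  obtain ⟨w, rfl⟩ := hξ
  have hw : w ⤳ x₀ := a.isClosedEmbedding.isInducing.specializes_iff.mp hξx
  exact ⟨w, hw.mem_open U.2 hxU, by rw [← hGa]; exact hξy⟩

/-- The conclusion used for `G^σ`: after an arbitrary base change, `G⁰` is open over the base at its
points. -/
theorem image_mem_nhds (h0 : IsClosed (SGA3x.neutralSet G))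
    (hop : ∀ x ∈ SGA3x.neutralSet G, EGA43.IsUnivOpenAt G.hom x) {S' : Scheme.{u}} (g : S' ⟶ S)
    (x' : (Red.bc g G).left) (hx' : x' ∈ SGA3x.neutralSet (Red.bc g G)) (U : Set (Red.bc g G).left)
    (hU : IsOpen U) (hxU : x' ∈ U) :
    (Red.bc g G).hom '' (U ∩ SGA3x.neutralSet (Red.bc g G)) ∈ nhds ((Red.bc g G).hom x') := by
  obtain ⟨Z, i, hi, hr⟩ := Groth.Agent.Localalg.GrpSchComp.exists_isClosedImmersion G.left _ h0
  let P := pullback (i ≫ G.hom) g
  let a : P ⟶ (Red.bc g G).left :=
    pullback.lift (pullback.fst (i ≫ G.hom) g ≫ i) (pullback.snd (i ≫ G.hom) g)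
      (by rw [Category.assoc, pullback.condition])
  have ha1 : a ≫ pullback.fst G.hom g = pullback.fst (i ≫ G.hom) g ≫ i := pullback.lift_fst _ _ _
  have ha2 : a ≫ (Red.bc g G).hom = pullback.snd (i ≫ G.hom) g := pullback.lift_snd _ _ _
  have sq2 : IsPullback (pullback.fst (i ≫ G.hom) g) a i (pullback.fst G.hom g) := by
    refine IsPullback.of_bot ?_ ha1.symm (IsPullback.of_hasPullback G.hom g)
    have h2 : a ≫ pullback.snd G.hom g = pullback.snd (i ≫ G.hom) g := ha2
    rw [h2]
    exact IsPullback.of_hasPullback _ _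
  have hra : Set.range a = SGA3x.neutralSet (Red.bc g G) := by
    rw [← Groth.Agent.Sga3.H806.ApproxConn.preimage_neutralSet g G, ← hr]
    have h2 : a = sq2.isoPullback.hom ≫ pullback.snd i (pullback.fst G.hom g) := by
      rw [IsPullback.isoPullback_hom_snd]
    rw [← Scheme.Pullback.range_snd, h2]
    ext y
    constructor
    · rintro ⟨w, rfl⟩
      exact ⟨sq2.isoPullback.hom w, (Scheme.Hom.comp_apply _ _ _).symm⟩
    · rintro ⟨w, rfl⟩
      obtain ⟨v, rfl⟩ := sq2.isoPullback.hom.surjective w
      exact ⟨v, Scheme.Hom.comp_apply _ _ _⟩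
  obtain ⟨w, rfl⟩ : x' ∈ Set.range a := by rw [hra]; exact hx'
  have h1 : EGA43.IsOpenAt (pullback.snd (i ≫ G.hom) g) w :=
    isUnivOpenAt_closed hop i hr (pullback.fst (i ≫ G.hom) g w) S' g w rfl
  have h2 := h1 (a ⁻¹' U) ((hU.preimage a.continuous).mem_nhds hxU)
  have h3 (v : P) : (Red.bc g G).hom (a v) = pullback.snd (i ≫ G.hom) g v := by
    rw [← Scheme.Hom.comp_apply, ha2]
  rw [h3]
  refine Filter.mem_of_superset h2 ?_
  rintro _ ⟨v, hv, rfl⟩
  exact ⟨a v, ⟨hv, by rw [← hra]; exact ⟨v, rfl⟩⟩, h3 v⟩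

end univ

end K276.Neutral
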