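import Groth.Agent.S3225
import Groth.Agent.Pic13.H951.Present
import Groth.Agent.Pic13.H542.HomFin
import Groth.Agent.Pic13.H508.Calc

/-!
# Quotients of a coherent sheaf on `P^n_k` with a fixed Hilbert function

`exists_presentation`: `E` coherent on `P^n_k`, `f : ℤ → ℤ`; there are coherent `E₁, E₀` such that every coherent quotient
of `E` with Hilbert function `f` is the cokernel of some `E₁ ⟶ E₀`.
`isBounded_quotients`: hence the quotients of `E` with Hilbert function in a finite set form a bounded family.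
-/

set_option autoImplicit false
universe u
open CategoryTheory CategoryTheory.Limits AlgebraicGeometry Opposite TopologicalSpace

namespace K276.QuotBdd

open Groth.Agent Groth.Agent.Sga67 Groth.Agent.CurvesB Groth.Agent.Pic13.H951.Present
open Groth.Agent.VarietyB Groth.Agent.VarietyB.EulerDiff Groth.Agent.VarietyB.EulerBinom

variable (k : Type u) [Field k] (n : ℕ)

/-- Kernels of surjections `O^r → F` with fixed Hilbert function are uniformly regular. -/
theorem exists_reg (r : ℕ) (φ : ℤ → ℤ) :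
    ∃ m : ℤ, ∀ (F : (CohB1.ProjSpace n k).Modules) (p : FlatMod.freeMod (CohB1.ProjSpace n k) r ⟶ F),
      Coh.IsCoh F → Epi p →
      (∀ t : ℤ, Curv2.euler k (CohB1.ProjSpace n k) (CohB1.tensorMod F (Twist.twistProjSpace n k t)) = φ t) →
      Curv2.IsMRegular k n (kernel p) m := by
  obtain ⟨Q, hQ⟩ := Groth.Agent.S3225.result.{u} r n
  let f : ℤ → ℤ := fun t => r * c n t - φ t
  let a : Fin (n + 1) → ℤ := fun j => dl^[(j : ℕ)] f 0
  refine ⟨MvPolynomial.eval a Q, fun F p hF hp hP => ?_⟩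
  have hK : Coh.IsCoh (kernel p) := Sga67.CohBasic.isCoh_kernel p (isCoh_free k n r) hF.1
  have hSES : (ShortComplex.mk (kernel.ι p) p (kernel.condition p)).ShortExact :=
    { exact := ShortComplex.exact_kernel p
      mono_f := (inferInstance : Mono (kernel.ι p))
      epi_g := hp }
  have hf : ∀ t, Curv2.euler k (CohB1.ProjSpace n k)
      (CohB1.tensorMod (kernel p) (Twist.twistProjSpace n k t)) = f t := by
    intro t
    have h1 := euler_obj_add k n hSES hK (isCoh_free k n r) hF t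
    have h2 := euler_free k n r t
    change _ = r * c n t - φ t
    rw [← hP t, ← h2]
    exact (sub_eq_of_eq_add h1).symm
  intro i hi _
  refine hQ k (kernel p) hK ⟨kernel.ι p, inferInstance⟩ a (fun t => ?_) i hi
  rw [eulerCharLE_eq k n (isCoh_tensor_twist k n hK t)]
  exact euler_newton k n hK f hf t

open Groth.Agent.Sga67.SerreVB in
/-- **Uniform presentations** of the quotients of `E` with given Hilbert function. -/
theorem exists_presentation {E : (CohB1.ProjSpace n k).Modules} (hE : Coh.IsCoh E) (φ : ℤ → ℤ) :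
    ∃ E₁ E₀ : (CohB1.ProjSpace n k).Modules, Coh.IsCoh E₁ ∧ Coh.IsCoh E₀ ∧
      ∀ F : (CohB1.ProjSpace n k).Modules, Coh.IsCoh F → (∃ p : E ⟶ F, Epi p) →
        (∀ d : ℤ, FGA.eulerCharLE k (CohB1.ProjSpace n k)
          (CohB1.tensorMod F (Twist.twistProjSpace n k d)) n = φ d) →
        ∃ u : E₁ ⟶ E₀, Nonempty (cokernel u ≅ F) := by
  have hproper : IsProper (CohB1.ProjSpace n k ↘ Spec (CommRingCat.of k)) :=
    VarietyB.EulerBinom.isProper_over k n
  have hLN : IsLocallyNoetherian (CohB1.ProjSpace n k) :=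
    LocallyOfFiniteType.isLocallyNoetherian (CohB1.ProjSpace n k ↘ (Spec (CommRingCat.of k)))
  obtain ⟨n₀, hn₀⟩ := exists_epi_twist n k hE
  obtain ⟨a, pE, hpE⟩ := hn₀ n₀ le_rfl
  let m : ℤ := n₀
  obtain ⟨m₁, hm₁⟩ := exists_reg k n a (fun t => φ (m + t))
  let b : ℕ := Module.finrank k (Coh.HH (CohB1.ProjSpace n k)
    (Fga.MumReg.tw (FlatMod.freeMod (CohB1.ProjSpace n k) a) m₁) 0)
  have hfree : ∀ r : ℕ, Coh.IsCoh (FlatMod.freeMod (CohB1.ProjSpace n k) r) := fun r =>
    VarietyB.EulerBinom.isCoh_free k n r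
  refine ⟨(tw n k (-m)).obj ((tw n k (-m₁)).obj (FlatMod.freeMod _ b)),
    (tw n k (-m)).obj (FlatMod.freeMod _ a), isCoh_tw n k (isCoh_tw n k (hfree b) _) _,
    isCoh_tw n k (hfree a) _, fun F hF ⟨s, hs⟩ hφ => ?_⟩
  have hFm : Coh.IsCoh ((tw n k m).obj F) := isCoh_tw n k hF m
  have hsm : Epi ((tw n k m).map s) := epi_tw_map (isInvertible_twist n k m) s
  let p : FlatMod.freeMod (CohB1.ProjSpace n k) a ⟶ (tw n k m).obj F := pE ≫ (tw n k m).map s
  have hp : Epi p := epi_comp _ _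
  -- the kernel
  have hK : Coh.IsCoh (kernel p) := Sga67.CohBasic.isCoh_kernel p (hfree a) hFm.1
  have hKreg : Curv2.IsMRegular k n (kernel p) m₁ := by
    refine hm₁ ((tw n k m).obj F) p hFm hp fun t => ?_
    obtain ⟨e⟩ := nonempty_tw_tw n k m t F
    have h1 : Curv2.euler k (CohB1.ProjSpace n k) (CohB1.tensorMod ((tw n k m).obj F) (Twist.twistProjSpace n k t)) =
        Curv2.euler k (CohB1.ProjSpace n k) ((tw n k (m + t)).obj F) := VarietyB.EulerBinom.euler_iso k n e
    have h2 := VarietyB.EulerBinom.eulerCharLE_eq k n (isCoh_tw n k hF (m + t))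
    rw [h1, ← h2]
    exact hφ (m + t)
  have hKvan : ∀ i : ℕ, 1 ≤ i → Subsingleton (Coh.HH (CohB1.ProjSpace n k) (Fga.MumReg.tw (kernel p) m₁) i) :=
    fun i hi => CMReg.subsingleton_HH hK.1 hKreg i hi m₁ (by omega)
  have hSES : (ShortComplex.mk (kernel.ι p) p (kernel.condition p)).ShortExact :=
    { exact := ShortComplex.exact_kernel p
      mono_f := inferInstance
      epi_g := hp }
  have hadd := Fga.MumReg.h0_add hSES hK.1 m₁ (hKvan 1 le_rfl)
    (S0002.result k _ _ (isCoh_tw n k (hfree a) m₁) 0)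
  have hKfin : Module.Finite k (Coh.HH (CohB1.ProjSpace n k) ((tw n k m₁).obj (kernel p)) 0) :=
    S0002.result k _ _ (isCoh_tw n k hK m₁) 0
  have hKle : Module.finrank k (Coh.HH (CohB1.ProjSpace n k) ((tw n k m₁).obj (kernel p)) 0) ≤ b := by
    change Module.finrank k (Coh.HH (CohB1.ProjSpace n k) (Fga.MumReg.tw (kernel p) m₁) 0) ≤ _
    have h1 : b = _ := hadd
    rw [h1]
    exact Nat.le_add_right _ _
  obtain ⟨q, hq⟩ := exists_epi_of_le (k := k) (CMReg.isGloballyGenerated hK.1 (m := m₁) hKreg m₁ le_rfl) hKfin hKle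
  -- `q(-m₁) : O(-m₁)^b ⟶ K(m₁)(-m₁) ≅ K`
  obtain ⟨e₁⟩ := nonempty_tw_tw n k m₁ (-m₁) (kernel p)
  obtain ⟨e₂⟩ := nonempty_tw_zero n k (kernel p)
  rw [add_neg_cancel] at e₁
  have hq' := epi_tw_map (isInvertible_twist n k (-m₁)) q
  let v : (tw n k (-m₁)).obj (FlatMod.freeMod _ b) ⟶ kernel p := (tw n k (-m₁)).map q ≫ e₁.hom ≫ e₂.hom
  have hv : Epi v := by
    dsimp only [v]
    infer_instance
  let w := v ≫ kernel.ι p
  have hw : Nonempty (cokernel w ≅ (tw n k m).obj F) := by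
    have hc : IsColimit (CokernelCofork.ofπ (f := w) p (by simp [w])) := by
      refine CokernelCofork.IsColimit.ofπ' p _ fun {A} g hg => ?_
      have hg' : kernel.ι p ≫ g = 0 := by
        rw [← cancel_epi v, comp_zero, ← Category.assoc]
        exact hg
      exact ⟨Abelian.epiDesc p g hg', Abelian.comp_epiDesc p g hg'⟩
    exact ⟨(cokernelIsCokernel w).coconePointUniqueUpToIso hc⟩
  obtain ⟨e₃⟩ := hw
  obtain ⟨e₄⟩ := nonempty_tw_tw n k m (-m) F
  obtain ⟨e₅⟩ := nonempty_tw_zero n k F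
  rw [add_neg_cancel] at e₄
  refine ⟨(tw n k (-m)).map w, ⟨?_⟩⟩
  have hpc : PreservesFiniteLimits (tw n k (-m)) ∧ PreservesFiniteColimits (tw n k (-m)) :=
    ((Functor.exact_tfae (tw n k (-m))).out 0 3).1 fun S hS =>
      CohqB.SerTw.shortExact_tw (isInvertible_twist n k (-m)) hS
  have hpc' := hpc.2
  exact (PreservesCokernel.iso (tw n k (-m)) w).symm ≪≫ (tw n k (-m)).mapIso e₃ ≪≫ e₄ ≪≫ e₅

/-- The quotients of `E` with Hilbert function in a finite set form a bounded family. -/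
theorem isBounded_quotients [IsAlgClosed k] {E : (CohB1.ProjSpace n k).Modules} (hE : Coh.IsCoh E)
    (Φ : Set (ℤ → ℤ)) (hΦ : Φ.Finite) :
    Pic13.IsBounded k (CohB1.ProjSpace n k) (fun F =>
      Coh.IsCoh F ∧ (∃ p : E ⟶ F, Epi p) ∧
        (fun r : ℤ => FGA.eulerCharLE k (CohB1.ProjSpace n k)
          (CohB1.tensorMod F (Twist.twistProjSpace n k r)) n) ∈ Φ) := by
  have hproper : IsProper (CohB1.ProjSpace n k ↘ Spec (CommRingCat.of k)) :=
    VarietyB.EulerBinom.isProper_over k n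
  have hfin : Finite Φ := hΦ
  have key : ∀ φ : Φ, Pic13.IsBounded k (CohB1.ProjSpace n k) (fun F =>
      Coh.IsCoh F ∧ (∃ p : E ⟶ F, Epi p) ∧
        ∀ r : ℤ, FGA.eulerCharLE k (CohB1.ProjSpace n k)
          (CohB1.tensorMod F (Twist.twistProjSpace n k r)) n = φ.1 r) := by
    intro φ
    obtain ⟨E₁, E₀, h1, h0, h⟩ := exists_presentation k n hE φ.1
    exact Groth.Agent.Pic13.H508.Calc.isBounded_mono (fun F hF => h F hF.1 hF.2.1 hF.2.2)
      (Groth.Agent.Pic13.H542.HomFin.isBounded_coker_all k h1 h0)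
  refine Groth.Agent.Pic13.H508.Calc.isBounded_mono ?_
    (Groth.Agent.Pic13.H508.Calc.isBounded_iUnion key)
  intro F hF
  exact ⟨⟨_, hF.2.2⟩, hF.1, hF.2.1, fun r => rfl⟩

end K276.QuotBdd
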